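import Cfsg.Agent.H57.BG.Kill
import Cfsg.Agent.H498.Ab.Def

/-!
# Abelian regular subgroups (S3561): the index `p² q²`, and the bound from `Ab3` (helper503)
-/

set_option autoImplicit false

namespace Cfsg.Agent.H503.BG

open Subgroup Cfsg.Agent Cfsg.Agent.H57.BG

universe u

/-- an abelian group of order `p² q²` with non-cyclic Sylow subgroups is `C_pq × C_pq` -/
theorem eqFac_of_sq {B : Type*} [CommGroup B] [Finite B] {p q : ℕ} (hp : p.Prime) (hq : q.Prime) (hpq : p ≠ q)
    (hB : Nat.card B = p ^ 2 * q ^ 2)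
    {x y : B} (hx : orderOf x = p) (hy : orderOf y = p) (hxy : y ∉ zpowers x)
    {x' y' : B} (hx' : orderOf x' = q) (hy' : orderOf y' = q) (hxy' : y' ∉ zpowers x') : EqFac B := by
  have hcop : Nat.Coprime p q := (Nat.coprime_primes hp hq).2 hpq
  have key : ∀ {r : ℕ} (_ : r.Prime) {u v : B}, orderOf u = r → orderOf v = r → v ∉ zpowers u →
      Disjoint (zpowers u) (zpowers v) := by
    intro r hr u v hu hv huv
    rw [disjoint_iff]
    by_contra hne
    have h3 : Nat.card (zpowers u ⊓ zpowers v : Subgroup B) ∣ r := by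
      rw [← hv, ← Nat.card_zpowers]
      exact Subgroup.card_dvd_of_le inf_le_right
    rcases (Nat.dvd_prime hr).mp h3 with h4 | h4
    · exact hne (Subgroup.card_eq_one.mp h4)
    · have h5 : (zpowers u ⊓ zpowers v : Subgroup B) = zpowers v := by
        refine Subgroup.eq_of_le_of_card_ge inf_le_right ?_
        rw [Nat.card_zpowers, hv, h4]
      exact huv ((inf_eq_right.mp h5) (mem_zpowers v))
  have hd := key hp hx hy hxy
  have hd' := key hq hx' hy' hxy'
  have hoa : orderOf (x * x') = p * q := by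
    rw [(Commute.all x x').orderOf_mul_eq_mul_orderOf_of_coprime (by rw [hx, hx']; exact hcop), hx, hx']
  have hob : orderOf (y * y') = p * q := by
    rw [(Commute.all y y').orderOf_mul_eq_mul_orderOf_of_coprime (by rw [hy, hy']; exact hcop), hy, hy']
  -- the two subgroups are disjoint
  have hdis : Disjoint (zpowers (x * x')) (zpowers (y * y')) := by
    rw [Subgroup.disjoint_def]
    rintro g ⟨i, hi⟩ ⟨j, hj⟩
    have hi' : x ^ i * x' ^ i = g := by rw [← mul_zpow]; exact hi
    have hj' : y ^ j * y' ^ j = g := by rw [← mul_zpow]; exact hj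
    have hpow : ∀ {r : ℕ} {u : B}, orderOf u = r → ∀ n : ℤ, (u ^ n) ^ r = 1 := by
      intro r u hu n
      rw [← zpow_natCast, ← zpow_mul, mul_comm, zpow_mul, zpow_natCast, ← hu, pow_orderOf_eq_one, one_zpow]
    have h1 : g ^ q = (x ^ i) ^ q := by rw [← hi', mul_pow, hpow hx' i, mul_one]
    have h2 : g ^ q = (y ^ j) ^ q := by rw [← hj', mul_pow, hpow hy' j, mul_one]
    have h3 : g ^ q = 1 := by
      have h4 : g ^ q ∈ zpowers x := by rw [h1]; exact pow_mem (zpow_mem (mem_zpowers x) i) q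
      have h5 : g ^ q ∈ zpowers y := by rw [h2]; exact pow_mem (zpow_mem (mem_zpowers y) j) q
      exact (Subgroup.disjoint_def.1 hd) h4 h5
    have h1' : g ^ p = (x' ^ i) ^ p := by rw [← hi', mul_pow, hpow hx i, one_mul]
    have h2' : g ^ p = (y' ^ j) ^ p := by rw [← hj', mul_pow, hpow hy j, one_mul]
    have h3' : g ^ p = 1 := by
      have h4 : g ^ p ∈ zpowers x' := by rw [h1']; exact pow_mem (zpow_mem (mem_zpowers x') i) p
      have h5 : g ^ p ∈ zpowers y' := by rw [h2']; exact pow_mem (zpow_mem (mem_zpowers y') j) p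
      exact (Subgroup.disjoint_def.1 hd') h4 h5
    have h6 := pow_gcd_eq_one.2 ⟨h3', h3⟩
    rwa [hcop.gcd_eq_one, pow_one] at h6
  refine ⟨p * q, 2, ![zpowers (x * x'), zpowers (y * y')], ?_, le_rfl, ?_, ?_, ?_⟩
  · have h1 := hp.two_le
    have h2 := hq.two_le
    nlinarith
  · rw [iSupIndep_pair (i := 0) (j := 1) (by decide) (by intro k; fin_cases k <;> simp)]
    exact hdis
  · set f : Fin 2 → Subgroup B := ![zpowers (x * x'), zpowers (y * y')] with hf
    have h0 : zpowers (x * x') ≤ ⨆ i, f i := le_iSup f 0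
    have h1 : zpowers (y * y') ≤ ⨆ i, f i := le_iSup f 1
    have h2 : Subgroup.IsComplement' (zpowers (x * x')) (zpowers (y * y')) :=
      Subgroup.isComplement'_of_card_mul_and_disjoint (by
        rw [Nat.card_zpowers, Nat.card_zpowers, hoa, hob, hB]; ring) hdis
    rw [eq_top_iff, ← h2.sup_eq_top]
    exact sup_le h0 h1
  · intro i
    fin_cases i
    · exact (Nat.card_zpowers _).trans hoa
    · exact (Nat.card_zpowers _).trans hob

/-- **the index is not `p² q²`** -/
theorem index_ne_sq {S : Type u} [Group S] [Finite S] {A : Subgroup (MulAut S)} {L : Subgroup S} (h : Reg A L)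
    {p q : ℕ} (hp : p.Prime) (hq : q.Prime) (hpq : p ≠ q) : L.index ≠ p ^ 2 * q ^ 2 := by
  intro hn
  apply h.nf
  letI : CommGroup A := { (inferInstance : Group A) with
    mul_comm := fun a b => Subtype.ext (h.comm a a.2 b b.2) }
  have hpair : ∀ r : ℕ, r.Prime → r ∣ L.index → ∃ x y : A, orderOf x = r ∧ orderOf y = r ∧ y ∉ zpowers x := by
    intro r hr hd
    have hF : Fact r.Prime := ⟨hr⟩
    have h1 := h.big r hr (by rw [h.card]; exact hd)
    obtain ⟨x, hx⟩ := exists_prime_orderOf_dvd_card' (G := A) r (by rw [h.card]; exact hd)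
    by_contra hcon
    push Not at hcon
    have h2 : ∀ a : A, a ^ r = 1 → a ∈ zpowers x := by
      intro a ha
      by_cases ha1 : a = 1
      · rw [ha1]; exact one_mem _
      · exact hcon x a hx (orderOf_eq_prime ha ha1)
    have h3 : Nat.card {a : A // a ^ r = 1} ≤ Nat.card (zpowers x) :=
      Nat.card_le_card_of_injective (fun a => (⟨a.1, h2 a.1 a.2⟩ : zpowers x)) (fun a b hab => by
        apply Subtype.ext
        exact congrArg (fun z : zpowers x => (z : A)) hab)
    rw [Nat.card_zpowers, hx] at h3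
    have h4 := h1.trans h3
    have := hr.two_le
    nlinarith
  obtain ⟨x, y, hx, hy, hxy⟩ := hpair p hp (by rw [hn]; exact (dvd_pow_self p two_ne_zero).mul_right _)
  obtain ⟨x', y', hx', hy', hxy'⟩ := hpair q hq (by rw [hn]; exact (dvd_pow_self q two_ne_zero).mul_left _)
  exact eqFac_of_sq hp hq hpq (by rw [h.card, hn]) hx hy hxy hx' hy' hxy'

theorem div_gcd_dvd {n o c : ℕ} (hn : 0 < n) (h : n ∣ c * o) : n / Nat.gcd n o ∣ c := by
  have h0 : 0 < Nat.gcd n o := Nat.gcd_pos_of_pos_left _ hn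
  have hcop : Nat.Coprime (n / Nat.gcd n o) (o / Nat.gcd n o) := Nat.coprime_div_gcd_div_gcd h0
  apply hcop.dvd_of_dvd_mul_right
  obtain ⟨d, hd⟩ := h
  refine ⟨d, Nat.eq_of_mul_eq_mul_left h0 ?_⟩
  calc Nat.gcd n o * (c * (o / Nat.gcd n o)) = c * (Nat.gcd n o * (o / Nat.gcd n o)) := by ring
    _ = c * o := by rw [Nat.mul_div_cancel' (Nat.gcd_dvd_right n o)]
    _ = n * d := hd
    _ = (Nat.gcd n o * (n / Nat.gcd n o)) * d := by rw [Nat.mul_div_cancel' (Nat.gcd_dvd_left n o)]
    _ = _ := by ring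

/-- **the bound from `Ab3`** -/
theorem ab3_bound {S : Type u} [Group S] [Finite S] {A : Subgroup (MulAut S)} {L : Subgroup S} (h : Reg A L)
    (hc : center S = ⊥) (h3 : H498.Ab.Ab3 S) {out : ℕ} (hout : (Inn S).index = out) :
    (L.index / Nat.gcd L.index out) ^ 3 < Nat.card S := by
  have h1 := h.index_dvd hc
  rw [hout] at h1
  have h2 : L.index / Nat.gcd L.index out ∣ Nat.card (inner A) :=
    div_gcd_dvd (Nat.pos_of_ne_zero Subgroup.index_ne_zero_of_finite) h1
  have hcomm : IsMulCommutative (inner A) := ⟨⟨fun a b => Subtype.ext (h.inner_comm hc a.2 b.2)⟩⟩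
  have h5 := h3 (inner A) hcomm
  exact (Nat.pow_le_pow_left (Nat.le_of_dvd Nat.card_pos h2) 3).trans_lt h5

end Cfsg.Agent.H503.BG
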