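import Cfsg.Agent.H503.BG.Sieve
import Cfsg.Agent.H503.BG.Nf

/-!
# Abelian regular subgroups (S3561): the sieve with `Ab3` and `nf` (helper503)
-/

set_option autoImplicit false

namespace Cfsg.Agent.H503.BG

open Subgroup Cfsg.Agent.H970.StabNum Cfsg.Agent Cfsg.Agent.H57.BG

universe u

/-- the index `N / h` is excluded by `nf` or `Ab3` -/
def kill3 (N : ℕ) (l : List (ℕ × ℕ)) (out h : ℕ) : Bool :=
  (l.any fun x => l.any fun y => x.1 != y.1 && N / h == x.1 ^ 2 * y.1 ^ 2) ||
    Nat.ble N ((N / h / Nat.gcd (N / h) out) ^ 3)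

theorem not_kill3 {T : Type u} [Group T] [Finite T] {A : Subgroup (MulAut T)} {L : Subgroup T}
    (h : Reg A L) (hc : center T = ⊥) {N out : ℕ} {l : List (ℕ × ℕ)} (hN : Nat.card T = N)
    (hv : OrdDiv.valid l N = true) (h3 : H498.Ab.Ab3 T) (hout : (Inn T).index = out) :
    kill3 N l out (Nat.card L) = false := by
  have h1 : N / Nat.card L = L.index := by
    rw [← hN, ← L.card_mul_index, Nat.mul_div_cancel_left _ Nat.card_pos]
  unfold kill3
  rw [h1, Bool.or_eq_false_iff]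
  constructor
  · rw [Bool.eq_false_iff]
    intro h2
    rw [List.any_eq_true] at h2
    obtain ⟨x, hx, h2⟩ := h2
    rw [List.any_eq_true] at h2
    obtain ⟨y, hy, h2⟩ := h2
    rw [Bool.and_eq_true, bne_iff_ne, beq_iff_eq] at h2
    exact index_ne_sq h (OrdDiv.valid_prime hv x hx) (OrdDiv.valid_prime hv y hy) h2.1 h2.2
  · rw [Bool.eq_false_iff]
    intro h2
    rw [Nat.ble_eq, ← hN] at h2
    have h4 := ab3_bound h hc h3 hout
    omega

/-- the remaining orders -/
theorem mem_of_ex3 {T : Type u} [Group T] [Finite T] [IsSimpleGroup T] {A : Subgroup (MulAut T)} {L : Subgroup T}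
    (h : Reg A L) (OT : OrdDiv.OrderTable.{u})
    (hS : ∀ (X : Type u) [Group X] [Finite X] [IsSimpleGroup X], Cfsg.IsKnownSimple' X)
    (hc : center T = ⊥) {N p M out : ℕ} {l : List (ℕ × ℕ)} {ps tbl : List ℕ} (hN : Nat.card T = N) (hp : p.Prime)
    (hp2 : ¬ p ^ 2 ∣ N) (hne : N ≠ p) (hM : okM N p 1 M = true) (hok : El.allOk N l [(p, 1, M)] ps tbl = true)
    (hex : ∃ R : Subgroup T, Nat.card R = p ∧ centralizer (R : Set T) = R) (h3 : H498.Ab.Ab3 T)
    (hout : (Inn T).index = out) :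
    Nat.card L ∈ (subR N l [(p, 1, M)] ps tbl out).filter fun h => !kill3 N l out h := by
  have hv : OrdDiv.valid l N = true := by
    unfold El.allOk at hok
    rw [Bool.and_eq_true] at hok
    exact hok.1
  rw [List.mem_filter, not_kill3 h hc hN hv h3 hout]
  exact ⟨mem_of_ex h OT hS hc hN hp hp2 hne hM hok hex hout.le, rfl⟩

/-- **Row**, if all the orders are excluded -/
theorem row_of_ex3 {T : Type u} [Group T] [Finite T] [IsSimpleGroup T] (OT : OrdDiv.OrderTable.{u})
    (hS : ∀ (X : Type u) [Group X] [Finite X] [IsSimpleGroup X], Cfsg.IsKnownSimple' X)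
    {N p M out : ℕ} {l : List (ℕ × ℕ)} {ps tbl : List ℕ} (hN : Nat.card T = N) (hp : p.Prime) (hd : p ∣ N)
    (hp2 : ¬ p ^ 2 ∣ N) (hne : N ≠ p) (hM : okM N p 1 M = true) (hok : El.allOk N l [(p, 1, M)] ps tbl = true)
    (hex : ∃ R : Subgroup T, Nat.card R = p ∧ centralizer (R : Set T) = R) (h3 : H498.Ab.Ab3 T)
    (hout : (Inn T).index = out)
    (hs : ((subR N l [(p, 1, M)] ps tbl out).filter fun h => !kill3 N l out h).isEmpty = true) : Row T := by
  intro A L h
  have h1 := mem_of_ex3 h OT hS (center_bot hN hp hd hne) hN hp hp2 hne hM hok hex h3 hout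
  rw [List.isEmpty_iff] at hs
  rw [hs] at h1
  exact List.not_mem_nil h1

/-- all primes of `N` divide `h` -/
theorem dvd_of_valid {l : List (ℕ × ℕ)} {N h r : ℕ} (hv : OrdDiv.valid l N = true)
    (hl : (l.all fun x => h % x.1 == 0) = true) (hr : r.Prime) (hd : r ∣ N) : r ∣ h := by
  obtain ⟨k, hk, -⟩ := OrdDiv.exists_pair hv hr (j := 1) le_rfl (by rwa [pow_one])
  rw [List.all_eq_true] at hl
  have h1 := hl _ hk
  rw [beq_iff_eq] at h1
  exact Nat.dvd_of_mod_eq_zero h1

end Cfsg.Agent.H503.BG
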