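import Cfsg.Agent.H57.BG.Tor
import Cfsg.Agent.H503.El.CycPlus

/-!
# 2-subgroups commuting with `C₅ × C₅` in `PΩ₈⁺(3)` (S3561) (helper503)
-/

set_option autoImplicit false
set_option linter.unusedSectionVars false

namespace Cfsg.Agent.H503.BG.Five

open Module Cfsg.Agent.H951 Cfsg.Agent.H884.Cg

section lin

variable {F : Type*} [Field F] [Fintype F] {V : Type*} [AddCommGroup V] [Module F V] [FiniteDimensional F V]
  {W : Submodule F V} {w z : Module.End F V}

theorem ord_three_five : orderOf ((3 : ℕ) : ZMod 5) = 4 := by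
  haveI : Fact (Nat.Prime 2) := ⟨Nat.prime_two⟩
  rw [show (4 : ℕ) = 2 ^ (1 + 1) by norm_num]
  exact orderOf_eq_prime_pow (by decide) (by decide)

/-- dimensions are divisible by four -/
theorem four_dvd (hF : Fintype.card F = 3) (hw : w ^ 5 = 1) (hW : Inv w W) (h0 : W ⊓ fx w = ⊥) :
    4 ∣ finrank F W := by
  haveI : Fact (Nat.Prime 5) := ⟨Nat.prime_five⟩
  have h1 := ord_dvd_finrank hw hW h0
  rwa [hF, ord_three_five] at h1

/-- irreducibility -/
theorem irr_of_four (hF : Fintype.card F = 3) (hw : w ^ 5 = 1) (hW : Inv w W) (h0 : W ⊓ fx w = ⊥)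
    (h4 : finrank F W = 4) {f : Module.End F V} (hf : Commute w f) (hfW : ∀ v ∈ W, f v ∈ W)
    {g : Module.End F V} (hgW : ∀ v ∈ W, g v ∈ W) (hfg : ∀ v ∈ W, f (g v) = 0) :
    (∀ v ∈ W, f v = 0) ∨ (∀ v ∈ W, g v = 0) := by
  have hi : Inv w (W ⊓ LinearMap.ker f) := fun v hv => ⟨hW v hv.1, LinearMap.mem_ker.2 (by
    have h1 : w (f v) = f (w v) := LinearMap.congr_fun hf.eq v
    rw [← h1, LinearMap.mem_ker.1 hv.2, map_zero])⟩
  have hd := four_dvd hF hw hi (by
    rw [eq_bot_iff, ← h0]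
    exact inf_le_inf_right _ inf_le_left)
  have hle := Submodule.finrank_mono (inf_le_left : W ⊓ LinearMap.ker f ≤ W)
  rcases Nat.eq_zero_or_pos (finrank F ↥(W ⊓ LinearMap.ker f)) with h | h
  · right
    intro v hv
    have h1 : g v ∈ W ⊓ LinearMap.ker f := ⟨hgW v hv, LinearMap.mem_ker.2 (hfg v hv)⟩
    rw [Submodule.finrank_eq_zero.1 h] at h1
    exact h1
  · left
    have h1 := Nat.le_of_dvd h hd
    have h2 : W ⊓ LinearMap.ker f = W := Submodule.eq_of_le_of_finrank_le inf_le_left (by omega)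
    intro v hv
    rw [← h2] at hv
    exact LinearMap.mem_ker.1 hv.2

/-- square roots of `1` -/
theorem pm_of_sq (hF : Fintype.card F = 3) (hw : w ^ 5 = 1) (hW : Inv w W) (h0 : W ⊓ fx w = ⊥)
    (h4 : finrank F W = 4) (hz : Commute w z) (hzW : Inv z W) (h2 : ∀ v ∈ W, z (z v) = v) :
    (∀ v ∈ W, z v = v) ∨ (∀ v ∈ W, z v = -v) := by
  rcases irr_of_four hF hw hW h0 h4 (f := z - 1) (g := z + 1) (hz.sub_right (Commute.one_right w))
    (fun v hv => W.sub_mem (hzW v hv) hv) (fun v hv => W.add_mem (hzW v hv) hv) (fun v hv => by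
      show z (z v + v) - (z v + v) = 0
      rw [map_add, h2 v hv, add_comm, sub_self]) with h | h
  · exact Or.inl fun v hv => sub_eq_zero.1 (h v hv)
  · exact Or.inr fun v hv => eq_neg_of_add_eq_zero_left (h v hv)

variable {B : V → V → F}

theorem sum_zero (hw : w ^ 5 = 1) (hW : Inv w W) (h0 : W ⊓ fx w = ⊥) {v : V} (hv : v ∈ W) :
    v + w v + (w ^ 2) v + (w ^ 3) v + (w ^ 4) v = 0 := by
  have h1 : v + w v + (w ^ 2) v + (w ^ 3) v + (w ^ 4) v ∈ W ⊓ fx w := by
    refine ⟨W.add_mem (W.add_mem (W.add_mem (W.add_mem hv (hW v hv)) (hW.pow 2 v hv)) (hW.pow 3 v hv))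
      (hW.pow 4 v hv), mem_fx.2 ?_⟩
    have h2 : ∀ n : ℕ, w ((w ^ n) v) = (w ^ (n + 1)) v := fun n => by rw [pow_succ', Module.End.mul_apply]
    have h3 : w (w v) = (w ^ 2) v := by rw [pow_two, Module.End.mul_apply]
    rw [map_add, map_add, map_add, map_add, h2, h2, h2, h3, hw, Module.End.one_apply]
    abel
  rw [h0] at h1
  exact h1

/-- an isometry commuting with `w` is not a square root of `-1` -/
theorem not_neg (hF : Fintype.card F = 3) (hw : w ^ 5 = 1) (hW : Inv w W) (h0 : W ⊓ fx w = ⊥)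
    (h4 : finrank F W = 4) (B : V →ₗ[F] V →ₗ[F] F) (hwB : ∀ u v, B (w u) (w v) = B u v)
    (hzB : ∀ u v, B (z u) (z v) = B u v) (hnd : ∀ v ∈ W, (∀ u ∈ W, B v u = 0) → v = 0)
    (hz : Commute w z) (hzW : Inv z W) (h2 : ∀ v ∈ W, z (z v) = -v) : False := by
  have h3 : (3 : F) = 0 := by
    have := FiniteField.cast_card_eq_zero F
    rw [hF] at this
    exact_mod_cast this
  have h20 : (2 : F) ≠ 0 := by
    intro h
    have h5 : (1 : F) = 3 - 2 := by norm_num
    rw [h3, h, sub_zero] at h5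
    exact one_ne_zero h5
  set j : Module.End F V := w + w ^ 4 - 1 with hj
  have hjv : ∀ v, j v = w v + (w ^ 4) v - v := fun v => rfl
  have hjW : ∀ v ∈ W, j v ∈ W := fun v hv => by
    rw [hjv]
    exact W.sub_mem (W.add_mem (hW v hv) (hW.pow 4 v hv)) hv
  have hcomp : ∀ (a b : ℕ) (v : V), (w ^ a) ((w ^ b) v) = (w ^ (a + b)) v := fun a b v => by
    rw [pow_add, Module.End.mul_apply]
  have hw1 : ∀ v, w v = (w ^ 1) v := fun v => by rw [pow_one]
  have hw5 : ∀ v, (w ^ 5) v = v := fun v => by rw [hw, Module.End.one_apply]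
  have h8 : ∀ v, (w ^ 8) v = (w ^ 3) v := fun v => by
    rw [show (8 : ℕ) = 5 + 3 from rfl, ← hcomp, hw5]
  have hj2 : ∀ v ∈ W, j (j v) = -v := fun v hv => by
    have hs := sum_zero hw hW h0 hv
    have e1 : j (j v) = (w ^ 2) v + (w ^ 8) v + v + ((w ^ 5) v + (w ^ 5) v) - (w v + w v) - ((w ^ 4) v + (w ^ 4) v) := by
      rw [hjv (j v), hjv v]
      simp only [map_add, map_sub]
      have e2 : w (w v) = (w ^ 2) v := by rw [pow_two, Module.End.mul_apply]
      have e3 : w ((w ^ 4) v) = (w ^ 5) v := by rw [hw1, hcomp]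
      have e4 : (w ^ 4) (w v) = (w ^ 5) v := by rw [hw1 v, hcomp]
      have e5 : (w ^ 4) ((w ^ 4) v) = (w ^ 8) v := hcomp 4 4 v
      rw [e2, e3, e4, e5]
      abel
    have e6 : j (j v) + v = (v + w v + (w ^ 2) v + (w ^ 3) v + (w ^ 4) v) + (3 : F) • (v - w v - (w ^ 4) v) := by
      rw [e1, h8, hw5]
      module
    rw [hs, h3, zero_smul, add_zero] at e6
    exact eq_neg_of_add_eq_zero_left e6
  have hwj : Commute w j := ((Commute.refl w).add_right ((Commute.refl w).pow_right 4)).sub_right (Commute.one_right w)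
  have hzj : Commute z j := (hz.symm.add_right (hz.symm.pow_right 4)).sub_right (Commute.one_right z)
  have hzjv : ∀ v, z (j v) = j (z v) := fun v => LinearMap.congr_fun hzj.eq v
  -- `j` is self adjoint
  have hadj : ∀ u v, B (j u) v = B u (j v) := fun u v => by
    rw [hjv, hjv]
    simp only [map_add, map_sub, LinearMap.add_apply, LinearMap.sub_apply]
    have e1 : B (w u) v = B u ((w ^ 4) v) := by
      rw [← hwB u, show w ((w ^ 4) v) = v by rw [hw1, hcomp]; exact hw5 v]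
    have e2 : B ((w ^ 4) u) v = B u (w v) := by
      rw [← hwB ((w ^ 4) u) v, show w ((w ^ 4) u) = u by rw [hw1, hcomp]; exact hw5 u]
    rw [e1, e2]
    ring
  have hpm := irr_of_four hF hw hW h0 h4 (f := z - j) (g := z + j) (hz.sub_right hwj)
    (fun v hv => W.sub_mem (hzW v hv) (hjW v hv)) (fun v hv => W.add_mem (hzW v hv) (hjW v hv)) (fun v hv => by
      show z (z v + j v) - j (z v + j v) = 0
      rw [map_add, map_add, h2 v hv, hj2 v hv, hzjv]
      abel)
  have hB : ∀ u ∈ W, ∀ v ∈ W, B u v = 0 := by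
    intro u hu v hv
    have e1 : B (z u) (z v) = B (j u) (j v) := by
      rcases hpm with h | h
      · rw [sub_eq_zero.1 (h u hu : z u - j u = 0), sub_eq_zero.1 (h v hv : z v - j v = 0)]
      · rw [eq_neg_of_add_eq_zero_left (h u hu : z u + j u = 0), eq_neg_of_add_eq_zero_left (h v hv : z v + j v = 0)]
        simp
    rw [hzB, hadj, hj2 v hv, map_neg] at e1
    have e2 : 2 * B u v = 0 := by linear_combination e1
    exact (mul_eq_zero.1 e2).resolve_left h20
  have hW0 : W = ⊥ := (Submodule.eq_bot_iff W).2 fun v hv => hnd v hv fun u hu => hB v hv u hu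
  rw [hW0, finrank_bot] at h4
  omega

/-- isometries of `2`-power order commuting with `w` -/
theorem pm_of_pow (hF : Fintype.card F = 3) (hw : w ^ 5 = 1) (hW : Inv w W) (h0 : W ⊓ fx w = ⊥)
    (h4 : finrank F W = 4) (B : V →ₗ[F] V →ₗ[F] F) (hwB : ∀ u v, B (w u) (w v) = B u v)
    (hzB : ∀ u v, B (z u) (z v) = B u v) (hnd : ∀ v ∈ W, (∀ u ∈ W, B v u = 0) → v = 0)
    (hz : Commute w z) (hzW : Inv z W) {k : ℕ} (hk : z ^ 2 ^ k = 1) :
    (∀ v ∈ W, z v = v) ∨ (∀ v ∈ W, z v = -v) := by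
  induction k generalizing z with
  | zero =>
    rw [pow_zero, pow_one] at hk
    exact Or.inl fun v _ => by rw [hk]; rfl
  | succ k ih =>
    have hzz : ∀ v, (z ^ 2) v = z (z v) := fun v => by rw [pow_two, Module.End.mul_apply]
    have h1 := ih (z := z ^ 2) (fun u v => by rw [hzz, hzz, hzB, hzB]) (hz.pow_right 2) (hzW.pow 2)
      (by rw [← pow_mul, ← pow_succ']; exact hk)
    rcases h1 with h1 | h1
    · exact pm_of_sq hF hw hW h0 h4 hz hzW fun v hv => by rw [← hzz]; exact h1 v hv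
    · exact (not_neg hF hw hW h0 h4 B hwB hzB hnd hz hzW fun v hv => by rw [← hzz]; exact h1 v hv).elim

end lin

section grp

open QuadraticMap Cfsg Cfsg.Agent.LieClassical.OrthCore Cfsg.Agent.LieClassical.OrthFinite
  Cfsg.Agent.H503.El.CycPlus
open Cfsg.Agent.H57.BG (comm_of_lift)

variable {F : Type} [Field F] [Fintype F] {ι : Type} [Fintype ι] [DecidableEq ι] {Q : QuadraticForm F (ι → F)}

/-- the natural representation of `Ω(Q)` -/
noncomputable def rho (Q : QuadraticForm F (ι → F)) : Omega F (⇑Q) →* Module.End F (ι → F) :=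
  (LinearEquiv.automorphismGroup.toLinearMapMonoidHom (R := F) (M := ι → F)).comp
    ((Subgroup.subtype _).comp (omegaEquiv Q).toMonoidHom)

theorem rho_apply (g : Omega F (⇑Q)) (v : ι → F) : rho Q g v = toL g v := rfl

theorem rho_injective : Function.Injective (rho Q) := fun x y h => toL_inj (by
  ext v : 1
  exact LinearMap.congr_fun h v)

theorem rho_isom (g : Omega F (⇑Q)) (u v : ι → F) : polarBilin Q (rho Q g u) (rho Q g v) = polarBilin Q u v :=
  polar_map (toL_mem g) u v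

theorem exists_lift_five (hD : H390.Lift.Data Q) {x : POmega F (⇑Q)} (hx : x ^ 5 = 1) :
    ∃ a : Omega F (⇑Q), QuotientGroup.mk' (Subgroup.center (Omega F (⇑Q))) a = x ∧ a ^ 5 = 1 := by
  obtain ⟨g, rfl⟩ := QuotientGroup.mk'_surjective (Subgroup.center (Omega F (⇑Q))) x
  have h1 : g ^ 5 ∈ Subgroup.center (Omega F (⇑Q)) := by
    rw [← QuotientGroup.ker_mk' (Subgroup.center (Omega F (⇑Q))), MonoidHom.mem_ker, map_pow]
    exact hx
  have h2 := H390.Lift.center_sq hD _ h1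
  rw [← pow_mul] at h2
  refine ⟨g ^ 6, ?_, ?_⟩
  · rw [map_pow, pow_succ, hx, one_mul]
  · rw [← pow_mul, show 6 * 5 = 5 * 2 * 3 by norm_num, pow_mul, h2, one_pow]

theorem exists_lift_eight (hD : H390.Lift.Data Q) {x : POmega F (⇑Q)} (hx : x ^ 8 = 1) :
    ∃ a : Omega F (⇑Q), QuotientGroup.mk' (Subgroup.center (Omega F (⇑Q))) a = x ∧ a ^ 16 = 1 := by
  obtain ⟨g, rfl⟩ := QuotientGroup.mk'_surjective (Subgroup.center (Omega F (⇑Q))) x
  have h1 : g ^ 8 ∈ Subgroup.center (Omega F (⇑Q)) := by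
    rw [← QuotientGroup.ker_mk' (Subgroup.center (Omega F (⇑Q))), MonoidHom.mem_ker, map_pow]
    exact hx
  have h2 := H390.Lift.center_sq hD _ h1
  rw [← pow_mul] at h2
  exact ⟨g, rfl, h2⟩

/-- **no subgroup of order `8` of `PΩ₈⁺(3)` centralizes `C₅ × C₅`** -/
theorem false_of_comm (hF : Fintype.card F = 3) (h8 : Fintype.card ι = 8) (hQ : Nondeg Q) (hD : H390.Lift.Data Q)
    {x y : POmega F (⇑Q)} (hx : orderOf x = 5) (hy : orderOf y = 5) (hxy : x * y = y * x)
    (hyx : y ∉ Subgroup.zpowers x) {R : Subgroup (POmega F (⇑Q))} (hR : Nat.card R = 8)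
    (hRx : ∀ q ∈ R, q * x = x * q) (hRy : ∀ q ∈ R, q * y = y * q) : False := by
  classical
  have h5p : Nat.Prime 5 := Nat.prime_five
  have h0 : ((5 : ℕ) : F) ≠ 0 := by
    have h3 : (3 : F) = 0 := by
      have := FiniteField.cast_card_eq_zero F
      rw [hF] at this
      exact_mod_cast this
    intro h
    have h5 : (1 : F) = 2 * 3 - 5 := by norm_num
    have h6 : (5 : F) = 0 := by exact_mod_cast h
    rw [h3, h6, mul_zero, sub_zero] at h5
    exact one_ne_zero h5
  set π := QuotientGroup.mk' (Subgroup.center (Omega F (⇑Q))) with hπ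
  have hK : π.ker ≤ Subgroup.center (Omega F (⇑Q)) := by rw [hπ, QuotientGroup.ker_mk']
  have hsq : ∀ k : Omega F (⇑Q), k ∈ π.ker → k ^ 2 = 1 := fun k hk => H390.Lift.center_sq hD k (hK hk)
  have hodd : ∀ k : Omega F (⇑Q), k ∈ π.ker → k ^ 5 = 1 → k = 1 := fun k hk h => by
    have h1 := hsq k hk
    calc k = k ^ 5 * (k ^ 2)⁻¹ * (k ^ 2)⁻¹ := by group
      _ = 1 := by rw [h, h1]; simp
  obtain ⟨a, ha, ha5⟩ := exists_lift_five hD (x := x) (by rw [← hx]; exact pow_orderOf_eq_one x)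
  obtain ⟨b, hb, hb5⟩ := exists_lift_five hD (x := y) (by rw [← hy]; exact pow_orderOf_eq_one y)
  have hab : a * b = b * a := comm_of_lift π hK ha5 hb5 (fun k hk h _ => hodd k hk h) (by rw [ha, hb, hxy])
  -- lifts of the elements of `R`
  have hlift : ∀ q : R, ∃ g : Omega F (⇑Q), π g = q ∧ g ^ 16 = 1 ∧ g * a = a * g ∧ g * b = b * g := by
    intro q
    have hq8 : (q : POmega F (⇑Q)) ^ 8 = 1 := by
      have h1 : q ^ Nat.card R = 1 := pow_card_eq_one'
      rw [hR] at h1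
      exact congrArg Subtype.val h1
    obtain ⟨g, hg, hg16⟩ := exists_lift_eight hD hq8
    exact ⟨g, hg, hg16, comm_of_lift π hK hg16 ha5 (fun k hk _ h => hodd k hk h) (by rw [hg, ha]; exact hRx q q.2),
      comm_of_lift π hK hg16 hb5 (fun k hk _ h => hodd k hk h) (by rw [hg, hb]; exact hRy q q.2)⟩
  set ρ := rho Q with hρdef
  have hρ1 : ∀ g : Omega F (⇑Q), ρ g = 1 → g = 1 := fun g h => rho_injective (by rw [← hρdef, h, map_one])
  have hA : (ρ a) ^ 5 = 1 := by rw [← map_pow, ha5, map_one]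
  have hB : (ρ b) ^ 5 = 1 := by rw [← map_pow, hb5, map_one]
  have hAB : Commute (ρ a) (ρ b) := by
    change _ * _ = _ * _
    rw [← map_mul, ← map_mul, hab]
  have hb1 : ρ b ≠ 1 := fun h => by
    rw [← hb, hρ1 b h, map_one, orderOf_one] at hy
    omega
  have hcb : cm (ρ b) ≠ ⊥ := fun h => hb1 (sub_eq_zero.1 (LinearMap.range_eq_bot.1 h))
  have hcfb : cm (ρ b) ⊓ fx (ρ b) = ⊥ := by
    rw [inf_comm]; exact (isCompl_fx_cm h0 hB).inf_eq_bot
  obtain ⟨i, -, hi⟩ := exists_fixed h5p h0 hA hB hAB (inv_cm_of_commute hAB) inv_cm hcb hcfb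
  set g := a * b ^ i with hg
  have hgw : ρ a * ρ b ^ i = ρ g := by rw [hg, map_mul, map_pow]
  rw [hgw] at hi
  have hg1 : g ≠ 1 := by
    intro h
    apply hyx
    have h4 : x = (y ^ i)⁻¹ := by
      rw [eq_inv_iff_mul_eq_one, ← ha, ← hb, ← map_pow, ← map_mul, ← hg, h, map_one]
    have h5 : Subgroup.zpowers x ≤ Subgroup.zpowers y := by
      rw [Subgroup.zpowers_le, h4]
      exact inv_mem (Subgroup.npow_mem_zpowers _ _)
    have h6 : Subgroup.zpowers x = Subgroup.zpowers y :=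
      Subgroup.eq_of_le_of_card_ge h5 (by rw [Nat.card_zpowers, Nat.card_zpowers, hx, hy])
    rw [h6]
    exact Subgroup.mem_zpowers _
  have hcai : Commute a (b ^ i) := (show Commute a b from hab).pow_right i
  have hgr : (ρ g) ^ 5 = 1 := by
    rw [← map_pow, hg, hcai.mul_pow, ← pow_mul, mul_comm i 5, pow_mul, ha5, hb5, one_pow, one_mul, map_one]
  have hgb : Commute (ρ g) (ρ b) := by
    change _ * _ = _ * _
    rw [← map_mul, ← map_mul, hg]
    congr 1
    exact ((show Commute a b from hab).mul_left (Commute.refl b |>.pow_left i)).eq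
  -- the two parts
  set U := cm (ρ b) ⊓ fx (ρ g) with hUdef
  have hUbi : Inv (ρ b) U := inv_cm.inf (inv_fx_of_commute hgb.symm)
  have hUf : U ⊓ fx (ρ b) = ⊥ := by
    rw [eq_bot_iff, ← hcfb]
    exact inf_le_inf_right _ inf_le_left
  have hUe := four_dvd hF hB hUbi hUf
  have hU0 : finrank F U ≠ 0 := fun h => hi (Submodule.finrank_eq_zero.1 h)
  have hcg : cm (ρ g) ≠ ⊥ := fun h => hg1 (hρ1 g (sub_eq_zero.1 (LinearMap.range_eq_bot.1 h)))
  have hcfg : cm (ρ g) ⊓ fx (ρ g) = ⊥ := by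
    rw [inf_comm]; exact (isCompl_fx_cm h0 hgr).inf_eq_bot
  have hge := four_dvd hF hgr inv_cm hcfg
  have hg0 : finrank F (cm (ρ g)) ≠ 0 := fun h => hcg (Submodule.finrank_eq_zero.1 h)
  have hdim := finrank_fx_add_cm h0 hgr
  rw [Module.finrank_fintype_fun_eq_card, h8] at hdim
  have hUle : finrank F U ≤ finrank F (fx (ρ g)) := Submodule.finrank_mono inf_le_right
  obtain ⟨c, hc⟩ := hUe
  obtain ⟨d, hd⟩ := hge
  have hcm4 : finrank F (cm (ρ g)) = 4 := by omega
  have hU4 : finrank F U = 4 := by omega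
  have hUfx : U = fx (ρ g) := Submodule.eq_of_le_of_finrank_le inf_le_right (by omega)
  -- orthogonality
  have hiso : ∀ (t : Omega F (⇑Q)) (u v : ι → F), polarBilin Q (ρ t u) (ρ t v) = polarBilin Q u v := rho_isom
  have horth : ∀ u ∈ cm (ρ g), ∀ v ∈ fx (ρ g), polarBilin Q u v = 0 := by
    intro u hu v hv
    obtain ⟨s, rfl⟩ := mem_cm.1 hu
    have h1 : polarBilin Q (ρ g s) v = polarBilin Q s v := by
      conv_lhs => rw [← mem_fx.1 hv]
      exact hiso g s v
    rw [map_sub, LinearMap.sub_apply, h1, sub_self]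
  have hsym : ∀ u v : ι → F, polarBilin Q u v = polarBilin Q v u := fun u v => polar_comm _ u v
  have hdec : ∀ v : ι → F, ∃ p ∈ fx (ρ g), ∃ q ∈ cm (ρ g), p + q = v := by
    intro v
    have h1 : v ∈ fx (ρ g) ⊔ cm (ρ g) := by rw [(isCompl_fx_cm h0 hgr).sup_eq_top]; trivial
    exact Submodule.mem_sup.1 h1
  have hnd1 : ∀ v ∈ cm (ρ g), (∀ u ∈ cm (ρ g), polarBilin Q v u = 0) → v = 0 := by
    intro v hv h
    refine hQ v fun u => ?_
    obtain ⟨p, hp, q, hq, rfl⟩ := hdec u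
    have h1 : polarBilin Q v (p + q) = 0 := by rw [map_add, horth v hv p hp, h q hq, add_zero]
    exact h1
  have hnd2 : ∀ v ∈ U, (∀ u ∈ U, polarBilin Q v u = 0) → v = 0 := by
    rw [hUfx]
    intro v hv h
    refine hQ v fun u => ?_
    obtain ⟨p, hp, q, hq, rfl⟩ := hdec u
    have h1 : polarBilin Q v (p + q) = 0 := by
      rw [map_add, h p hp, hsym v q, horth q hq v hv, add_zero]
    exact h1
  -- signs
  have hsign : ∀ t : Omega F (⇑Q), t ^ 16 = 1 → t * a = a * t → t * b = b * t →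
      ((∀ v ∈ cm (ρ g), ρ t v = v) ∨ (∀ v ∈ cm (ρ g), ρ t v = -v)) ∧
        ((∀ v ∈ U, ρ t v = v) ∨ (∀ v ∈ U, ρ t v = -v)) := by
    intro t ht hta htb
    have htg : Commute (ρ t) (ρ g) := by
      change _ * _ = _ * _
      rw [← map_mul, ← map_mul, hg]
      congr 1
      exact ((show Commute t a from hta).mul_right ((show Commute t b from htb).pow_right i)).eq
    have htb' : Commute (ρ t) (ρ b) := by
      change _ * _ = _ * _
      rw [← map_mul, ← map_mul, htb]
    have ht16 : (ρ t) ^ 2 ^ 4 = 1 := by rw [← map_pow, show 2 ^ 4 = 16 by norm_num, ht, map_one]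
    exact ⟨pm_of_pow hF hgr inv_cm hcfg hcm4 (polarBilin Q) (hiso g) (hiso t) hnd1 htg.symm (inv_cm_of_commute htg) ht16,
      pm_of_pow hF hB hUbi hUf hU4 (polarBilin Q) (hiso b) (hiso t) hnd2 htb'.symm
        ((inv_cm_of_commute htb').inf (inv_fx_of_commute htg)) ht16⟩
  choose f hf using hlift
  have hinj : Function.Injective fun q : R => (decide (∀ v ∈ cm (ρ g), ρ (f q) v = v), decide (∀ v ∈ U, ρ (f q) v = v)) := by
    intro q q' h
    rw [Prod.mk.injEq, decide_eq_decide, decide_eq_decide] at h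
    have key : ∀ (W : Submodule F (ι → F)) (t t' : Omega F (⇑Q)),
        ((∀ v ∈ W, ρ t v = v) ↔ (∀ v ∈ W, ρ t' v = v)) → ((∀ v ∈ W, ρ t v = v) ∨ (∀ v ∈ W, ρ t v = -v)) →
        ((∀ v ∈ W, ρ t' v = v) ∨ (∀ v ∈ W, ρ t' v = -v)) → ∀ v ∈ W, ρ t v = ρ t' v := by
      intro W t t' hiff h1 h2 v hv
      by_cases h3 : ∀ v ∈ W, ρ t v = v
      · rw [h3 v hv, hiff.1 h3 v hv]
      · have h4 : ¬ ∀ v ∈ W, ρ t' v = v := fun h => h3 (hiff.2 h)
        rw [h1.resolve_left h3 v hv, h2.resolve_left h4 v hv]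
    obtain ⟨-, ht1, ht2, ht3⟩ := hf q
    obtain ⟨-, ht1', ht2', ht3'⟩ := hf q'
    have s1 := hsign (f q) ht1 ht2 ht3
    have s2 := hsign (f q') ht1' ht2' ht3'
    have e1 := key (cm (ρ g)) (f q) (f q') h.1 s1.1 s2.1
    have e2 := key U (f q) (f q') h.2 s1.2 s2.2
    have e3 : f q = f q' := by
      apply rho_injective
      refine LinearMap.ext fun v => ?_
      obtain ⟨p, hp, r, hr, rfl⟩ := hdec v
      rw [map_add, map_add]
      rw [← hUfx] at hp
      have e4 := e1 r hr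
      have e5 := e2 p hp
      rw [hρdef] at e4 e5
      rw [e4, e5]
    apply Subtype.ext
    rw [← (hf q).1, ← (hf q').1, e3]
  have hcard := Nat.card_le_card_of_injective _ hinj
  rw [hR, Nat.card_prod, Nat.card_eq_fintype_card, Fintype.card_bool] at hcard
  omega

end grp

end Cfsg.Agent.H503.BG.Five
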