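import Cfsg.Agent.H503.BG.Sieve
import Cfsg.Agent.H503.El.CG
import Cfsg.Agent.S0813
import Cfsg.Agent.S0265
import Cfsg.Agent.H809.SelfCentLin

/-!
# Abelian regular subgroups (S3561): the small groups `Lₙ(q)` (helper503)
-/

set_option autoImplicit false
set_option maxRecDepth 100000

namespace Cfsg.Agent.H503.BG

open Subgroup Cfsg.Agent.H970.StabNum Cfsg.Agent Cfsg.Agent.H57.BG Cfsg.Agent.H899.CG

theorem row_of_cGap {T : Type} [Group T] [Finite T] (hc : center T = ⊥) (h : ∀ R : Subgroup T, R ≠ ⊤ → CGap T R) :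
    Row T := row_of_cGapMax hc fun M hM => h M hM.1

theorem out_psl {F : Type} [Field F] [Fintype F] (p f : ℕ) [Fact p.Prime] (hf : 1 ≤ f) (hF : Fintype.card F = p ^ f)
    {n : ℕ} (hn : 3 ≤ n) (hc : center (Matrix.ProjectiveSpecialLinearGroup (Fin n) F) = ⊥) :
    (Inn (Matrix.ProjectiveSpecialLinearGroup (Fin n) F)).index ≤ 2 * f * Nat.gcd n (p ^ f - 1) := by
  have h1 := S0813.result p f hf hF n (by omega) (fun h => by omega)
  rw [if_neg (by omega : ¬ n = 2)] at h1
  have h2 : Nat.card (Matrix.SpecialLinearGroup (Fin n) F) = Nat.card (Matrix.ProjectiveSpecialLinearGroup (Fin n) F) *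
      Nat.card (center (Matrix.SpecialLinearGroup (Fin n) F)) :=
    Subgroup.card_eq_card_quotient_mul_card_subgroup _
  rw [H809.SelfCent.card_center_SL n (by omega), hF] at h2
  rw [S0265.result, h2] at h1
  rw [index_of_card hc (out := 2 * f * Nat.gcd n (p ^ f - 1)) (by rw [h1]; ring)]

theorem card_psl33 {F : Type} [Field F] [Fintype F] (hF : Fintype.card F = 3) :
    Nat.card (Matrix.ProjectiveSpecialLinearGroup (Fin 3) F) = 5616 :=
  El.card_psl hF (by norm_num) (by simp [Fin.prod_univ_succ]) (by norm_num)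

theorem card_psl35 {F : Type} [Field F] [Fintype F] (hF : Fintype.card F = 5) :
    Nat.card (Matrix.ProjectiveSpecialLinearGroup (Fin 3) F) = 372000 :=
  El.card_psl hF (by norm_num) (by simp [Fin.prod_univ_succ]) (by norm_num)

theorem card_psl43 {F : Type} [Field F] [Fintype F] (hF : Fintype.card F = 3) :
    Nat.card (Matrix.ProjectiveSpecialLinearGroup (Fin 4) F) = 6065280 :=
  El.card_psl hF (by norm_num) (by simp [Fin.prod_univ_succ]) (by norm_num)

theorem card_psl52 {F : Type} [Field F] [Fintype F] (hF : Fintype.card F = 2) :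
    Nat.card (Matrix.ProjectiveSpecialLinearGroup (Fin 5) F) = 9999360 :=
  El.card_psl hF (by norm_num) (by simp [Fin.prod_univ_succ]) (by norm_num)

variable (OT : OrdDiv.OrderTable.{0})
  (hS : ∀ (X : Type) [Group X] [Finite X] [IsSimpleGroup X], Cfsg.IsKnownSimple' X)

include OT hS

theorem row_psl34 (F : Type) [Field F] [Fintype F] (hF : Fintype.card F = 4) :
    Row (Matrix.ProjectiveSpecialLinearGroup (Fin 3) F) := by
  haveI : IsSimpleGroup (Matrix.ProjectiveSpecialLinearGroup (Fin 3) F) := S0249.result 3 le_rfl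
  exact row_of_cGap (center_bot (El.card_psl34 hF) (p := 2) (by norm_num) (by norm_num) (by norm_num))
    (El.cgap_psl34 OT hS F hF)

theorem row_psl44 (F : Type) [Field F] [Fintype F] (hF : Fintype.card F = 4) :
    Row (Matrix.ProjectiveSpecialLinearGroup (Fin 4) F) := by
  haveI : IsSimpleGroup (Matrix.ProjectiveSpecialLinearGroup (Fin 4) F) := S0249.result 4 (by norm_num)
  exact row_of_cGap (center_bot (El.card_psl44 hF) (p := 2) (by norm_num) (by norm_num) (by norm_num))
    (El.cgap_psl44 OT hS F hF)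

theorem row_psl72 (F : Type) [Field F] [Fintype F] (hF : Fintype.card F = 2) :
    Row (Matrix.ProjectiveSpecialLinearGroup (Fin 7) F) := by
  haveI : IsSimpleGroup (Matrix.ProjectiveSpecialLinearGroup (Fin 7) F) := S0249.result 7 (by norm_num)
  exact row_of_cGap (center_bot (El.card_psl72 hF) (p := 2) (by norm_num) (by norm_num) (by norm_num))
    (El.cgap_psl72 OT hS F hF)

theorem row_psl43 (F : Type) [Field F] [Fintype F] (hF : Fintype.card F = 3) :
    Row (Matrix.ProjectiveSpecialLinearGroup (Fin 4) F) := by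
  haveI : IsSimpleGroup (Matrix.ProjectiveSpecialLinearGroup (Fin 4) F) := S0249.result 4 (by norm_num)
  exact row_of_ex' OT hS (p := 13) (M := 3) (l := [(2,7),(3,6),(5,1),(13,1)]) (ps := [2, 3, 5, 13])
    (tbl := [60, 360, 5616, 25920, 6065280]) (card_psl43 hF) (by norm_num) (by norm_num) (by norm_num) (by norm_num)
    (by decide +kernel) (by decide +kernel) (H809.SelfCent.psl_selfcent 4 3 13 (by simp) F hF) (by decide +kernel)

theorem row_psl52 (F : Type) [Field F] [Fintype F] (hF : Fintype.card F = 2) :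
    Row (Matrix.ProjectiveSpecialLinearGroup (Fin 5) F) := by
  haveI : IsSimpleGroup (Matrix.ProjectiveSpecialLinearGroup (Fin 5) F) := S0249.result 5 (by norm_num)
  exact row_of_ex' OT hS (p := 31) (M := 5) (l := [(2,10),(3,2),(5,1),(7,1),(31,1)]) (ps := [2, 3, 5, 7, 31])
    (tbl := [60, 168, 360, 504, 2520, 14880, 20160, 9999360]) (card_psl52 hF) (by norm_num) (by norm_num) (by norm_num)
    (by norm_num) (by decide +kernel) (by decide +kernel) (H809.SelfCent.psl_selfcent 5 2 31 (by simp) F hF)
    (by decide +kernel)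

theorem row_psl33 (F : Type) [Field F] [Fintype F] (hF : Fintype.card F = 3) :
    Row (Matrix.ProjectiveSpecialLinearGroup (Fin 3) F) := by
  haveI : IsSimpleGroup (Matrix.ProjectiveSpecialLinearGroup (Fin 3) F) := S0249.result 3 (by norm_num)
  haveI : Fact (Nat.Prime 3) := ⟨by norm_num⟩
  exact row_of_ex OT hS (p := 13) (M := 3) (l := [(2,4),(3,3),(13,1)]) (ps := [2, 3, 13])
    (tbl := [5616]) (card_psl33 hF) (by norm_num) (by norm_num) (by norm_num) (by norm_num)
    (by decide +kernel) (by decide +kernel) (H809.SelfCent.psl_selfcent 3 3 13 (by simp) F hF)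
    (out_psl 3 1 le_rfl (by rw [hF]; norm_num) le_rfl
      (center_bot (card_psl33 hF) (p := 2) (by norm_num) (by norm_num) (by norm_num))) (by decide +kernel)

theorem row_psl35 (F : Type) [Field F] [Fintype F] (hF : Fintype.card F = 5) :
    Row (Matrix.ProjectiveSpecialLinearGroup (Fin 3) F) := by
  haveI : IsSimpleGroup (Matrix.ProjectiveSpecialLinearGroup (Fin 3) F) := S0249.result 3 (by norm_num)
  haveI : Fact (Nat.Prime 5) := ⟨by norm_num⟩
  exact row_of_ex OT hS (p := 31) (M := 3) (l := [(2,5),(3,1),(5,3),(31,1)]) (ps := [2, 3, 5, 31])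
    (tbl := [60, 14880, 372000]) (card_psl35 hF) (by norm_num) (by norm_num) (by norm_num) (by norm_num)
    (by decide +kernel) (by decide +kernel) (H809.SelfCent.psl_selfcent 3 5 31 (by simp) F hF)
    (out_psl 5 1 le_rfl (by rw [hF]; norm_num) le_rfl
      (center_bot (card_psl35 hF) (p := 2) (by norm_num) (by norm_num) (by norm_num))) (by decide +kernel)

end Cfsg.Agent.H503.BG
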