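import Cfsg.Agent.H503.BG.Full
import Cfsg.Agent.H503.BG.RowsL
import Cfsg.Agent.H498.Ab.RowL

/-!
# Abelian regular subgroups (S3561): `L₆(2)` (helper503)
-/

set_option autoImplicit false
set_option maxRecDepth 100000

namespace Cfsg.Agent.H503.BG

open Subgroup Cfsg.Agent.H970.StabNum Cfsg.Agent Cfsg.Agent.H57.BG

theorem out_psl_eq {F : Type} [Field F] [Fintype F] (p f : ℕ) [Fact p.Prime] (hf : 1 ≤ f) (hF : Fintype.card F = p ^ f)
    {n : ℕ} (hn : 3 ≤ n) (hc : center (Matrix.ProjectiveSpecialLinearGroup (Fin n) F) = ⊥) :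
    (Inn (Matrix.ProjectiveSpecialLinearGroup (Fin n) F)).index = 2 * f * Nat.gcd n (p ^ f - 1) := by
  have h1 := S0813.result p f hf hF n (by omega) (fun h => by omega)
  rw [if_neg (by omega : ¬ n = 2)] at h1
  have h2 : Nat.card (Matrix.SpecialLinearGroup (Fin n) F) = Nat.card (Matrix.ProjectiveSpecialLinearGroup (Fin n) F) *
      Nat.card (center (Matrix.SpecialLinearGroup (Fin n) F)) :=
    Subgroup.card_eq_card_quotient_mul_card_subgroup _
  rw [H809.SelfCent.card_center_SL n (by omega), hF] at h2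
  rw [S0265.result, h2] at h1
  exact index_of_card hc (out := 2 * f * Nat.gcd n (p ^ f - 1)) (by rw [h1]; ring)

theorem row_psl62 (OT : OrdDiv.OrderTable.{0})
    (hS : ∀ (X : Type) [Group X] [Finite X] [IsSimpleGroup X], Cfsg.IsKnownSimple' X)
    (F : Type) [Field F] [Fintype F] (hF : Fintype.card F = 2) :
    Row (Matrix.ProjectiveSpecialLinearGroup (Fin 6) F) := by
  haveI : IsSimpleGroup (Matrix.ProjectiveSpecialLinearGroup (Fin 6) F) := S0249.result 6 (by norm_num)
  haveI : Fact (Nat.Prime 2) := ⟨by norm_num⟩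
  have hc := center_bot (El.card_psl62 hF) (p := 5) (by norm_num) (by norm_num) (by norm_num)
  exact row_of_ex3 OT hS (p := 31) (M := 5) (l := [(2, 15), (3, 4), (5, 1), (7, 2), (31, 1)]) (ps := [2, 3, 5, 7, 31])
    (tbl := [60, 168, 360, 504, 2520, 6048, 14880, 20160, 25920, 181440, 1451520, 9999360, 20158709760])
    (El.card_psl62 hF) (by norm_num) (by norm_num) (by norm_num) (by norm_num)
    (by decide +kernel) (by decide +kernel) (H809.SelfCent.psl_selfcent 6 2 31 (by simp) F hF)
    (H498.Ab.RowL.ab3_PSL (by norm_num) (by omega) (by omega))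
    (out_psl_eq 2 1 le_rfl (by rw [hF]; norm_num) (by norm_num) hc) (by decide +kernel)

end Cfsg.Agent.H503.BG
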