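import Cfsg.Agent.H503.BG.RowsL
import Cfsg.Agent.S0295
import Cfsg.Agent.S0296
import Cfsg.Agent.S0297

/-!
# Abelian regular subgroups (S3561): `Ω₇(3)`, `PΩ₈⁻(2)`, `PΩ₁₀⁺(2)` (helper503)
-/

set_option autoImplicit false
set_option maxRecDepth 100000

namespace Cfsg.Agent.H503.BG

open Subgroup Cfsg Cfsg.Agent Cfsg.Agent.H57.BG

variable (OT : OrdDiv.OrderTable.{0})
  (hS : ∀ (X : Type) [Group X] [Finite X] [IsSimpleGroup X], Cfsg.IsKnownSimple' X)

include OT hS

/-- `Ω₇(3)` -/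
theorem row_o73 (F : Type) [Field F] [Fintype F] (hF : Fintype.card F = 3) : Row (POmega F (quadFormOdd 3 F)) := by
  haveI : IsSimpleGroup (POmega F (quadFormOdd 3 F)) := S0295.result (by rw [hF]; decide) 3 le_rfl
  haveI : Finite (POmega F (quadFormOdd 3 F)) := Nat.finite_of_card_ne_zero (by rw [El.card_o73 hF]; norm_num)
  exact row_of_cGap (center_bot (El.card_o73 hF) (p := 2) (by norm_num) (by norm_num) (by norm_num))
    (El.cgap_o73 OT hS F hF)

/-- `PΩ₈⁻(2)` -/
theorem row_o8m (F : Type) [Field F] [Fintype F] (hF : Fintype.card F = 2) (a b : F)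
    (hab : ∀ z₁ z₂ : F, z₁ ^ 2 + a * z₁ * z₂ + b * z₂ ^ 2 = 0 → z₁ = 0 ∧ z₂ = 0) :
    Row (POmega F (quadFormMinus 3 F a b)) := by
  haveI : IsSimpleGroup (POmega F (quadFormMinus 3 F a b)) := S0297.result 4 le_rfl a b hab
  haveI : Finite (POmega F (quadFormMinus 3 F a b)) :=
    Nat.finite_of_card_ne_zero (by rw [El.card_o8m hF a b hab]; norm_num)
  exact row_of_cGap (center_bot (El.card_o8m hF a b hab) (p := 2) (by norm_num) (by norm_num) (by norm_num))
    (El.cgap_o8m OT hS F hF a b hab)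

/-- `PΩ₁₀⁺(2)` -/
theorem row_o10p (F : Type) [Field F] [Fintype F] (hF : Fintype.card F = 2) : Row (POmega F (quadFormPlus 5 F)) := by
  haveI : IsSimpleGroup (POmega F (quadFormPlus 5 F)) := S0296.result 5 (by norm_num)
  haveI : Finite (POmega F (quadFormPlus 5 F)) :=
    Nat.finite_of_card_ne_zero (by rw [El.card_o10p hF]; norm_num)
  exact row_of_cGap (center_bot (El.card_o10p hF) (p := 2) (by norm_num) (by norm_num) (by norm_num))
    (El.cgap_o10p OT hS F hF)

end Cfsg.Agent.H503.BG
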