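import Cfsg.Agent.H503.BG.O8Five
import Cfsg.Agent.H503.BG.RowsO
import Cfsg.Agent.S0817

/-!
# Abelian regular subgroups (S3561): `PΩ₈⁺(3)` (helper503)
-/

set_option autoImplicit false
set_option maxRecDepth 100000

namespace Cfsg.Agent.H503.BG

open Subgroup Cfsg Cfsg.Agent Cfsg.Agent.H57.BG Cfsg.Agent.H970.StabNum

/-- `Reg A L` for `PΩ₈⁺(3)` : not all the conditions hold -/
theorem Five.false_of_reg {F : Type} [Field F] [Fintype F] (hF : Fintype.card F = 3)
    (hc : center (POmega F (quadFormPlus 4 F)) = ⊥) [Finite (POmega F (quadFormPlus 4 F))]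
    (hout : (Inn (POmega F (quadFormPlus 4 F))).index = 24) {A : Subgroup (MulAut (POmega F (quadFormPlus 4 F)))}
    {L : Subgroup (POmega F (quadFormPlus 4 F))} (h : Reg A L) (h1 : 1600 ∣ L.index) : False := by
  obtain ⟨x, y, hx, hy, hxo, hyo, hyx⟩ := h.exists_pair hc Nat.prime_five ((by norm_num : 5 ∣ 1600).trans h1)
    (by rw [hout]; norm_num)
  have h5 := h.index_dvd hc
  rw [hout] at h5
  have h8 : 2 ^ 3 ∣ Nat.card (inner A) := by
    have h6 : 8 * (8 * 25) ∣ 8 * (Nat.card (inner A) * 3) := by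
      refine (?_ : 8 * (8 * 25) ∣ 1600).trans (h1.trans (h5.trans ?_))
      · norm_num
      · exact ⟨1, by ring⟩
    have h7 : 8 * 25 ∣ Nat.card (inner A) * 3 := Nat.dvd_of_mul_dvd_mul_left (by norm_num) h6
    have h9 : 8 ∣ Nat.card (inner A) * 3 := (Dvd.intro _ rfl).trans h7
    exact (by norm_num : Nat.Coprime 8 3).dvd_of_dvd_mul_right h9
  haveI : Fact (Nat.Prime 2) := ⟨Nat.prime_two⟩
  obtain ⟨Q, hQ⟩ := Sylow.exists_subgroup_card_pow_prime (G := inner A) 2 (n := 3) h8
  have hQA : Q.map (inner A).subtype ≤ inner A := Subgroup.map_subtype_le _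
  have hRc : Nat.card (Q.map (inner A).subtype) = 8 := by
    rw [Subgroup.card_map_of_injective (inner A).subtype_injective, hQ]
    norm_num
  have hcomm := h.inner_comm hc hx hy
  have hRx : ∀ q ∈ Q.map (inner A).subtype, q * x = x * q := fun q hq => h.inner_comm hc (hQA hq) hx
  have hRy : ∀ q ∈ Q.map (inner A).subtype, q * y = y * q := fun q hq => h.inner_comm hc (hQA hq) hy
  have key : ∀ {x y : POmega F (⇑(LieClassical.OmegaReindex.quadPlus 4 F))}, orderOf x = 5 → orderOf y = 5 →
      x * y = y * x → y ∉ zpowers x → ∀ R : Subgroup (POmega F (⇑(LieClassical.OmegaReindex.quadPlus 4 F))),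
      Nat.card R = 8 → (∀ q ∈ R, q * x = x * q) → (∀ q ∈ R, q * y = y * q) → False :=
    fun {x y} h1 h2 h3 h4 R h5 h6 h7 => Five.false_of_comm (Q := LieClassical.OmegaReindex.quadPlus 4 F) hF
      (H884.El.card_plus 4)
      (LieClassical.OrthCore.nondeg_of_nondegenerate LieClassical.OmegaReindex.quadPlus_nondegenerate)
      (H884.El.data_plus le_rfl) h1 h2 h3 h4 h5 h6 h7
  rw [LieClassical.OmegaReindex.coe_quadPlus] at key
  exact key hxo hyo hcomm hyx _ hRc hRx hRy

variable (OT : OrdDiv.OrderTable.{0})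
  (hS : ∀ (X : Type) [Group X] [Finite X] [IsSimpleGroup X], Cfsg.IsKnownSimple' X)

include OT hS

/-- `PΩ₈⁺(3)` -/
theorem row_o83 (F : Type) [Field F] [Fintype F] (hF : Fintype.card F = 3) : Row (POmega F (quadFormPlus 4 F)) := by
  haveI : IsSimpleGroup (POmega F (quadFormPlus 4 F)) := S0296.result 4 le_rfl
  obtain ⟨e⟩ := El.equiv_o83 F hF
  have hN : Nat.card (POmega F (quadFormPlus 4 F)) = 4952179814400 := by
    rw [← Nat.card_congr e.toEquiv]; exact El.O83.card_t8
  haveI : Finite (POmega F (quadFormPlus 4 F)) := Nat.finite_of_card_ne_zero (by rw [hN]; norm_num)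
  have hc := center_bot hN (p := 2) (by norm_num) (by norm_num) (by norm_num)
  haveI : Fact (Nat.Prime 3) := ⟨Nat.prime_three⟩
  have hout : (Inn (POmega F (quadFormPlus 4 F))).index = 24 := by
    apply index_of_card hc
    rw [S0817.result (F := F) 3 1 le_rfl (by rw [hF]; norm_num) 4 le_rfl, if_pos rfl, if_neg (by norm_num),
      if_pos (by decide)]
  intro A L h
  have h1 := mem_of_ex h OT hS hc (p := 13) (M := 6) (l := [(2, 12), (3, 12), (5, 2), (7, 1), (13, 1)])
    (ps := [2, 3, 5, 7, 13])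
    (tbl := [60, 168, 360, 504, 1092, 2520, 5616, 6048, 7800, 9828, 20160, 25920, 29120, 62400, 181440, 262080, 604800,
        1451520, 1814400, 3265920, 4245696, 6065280, 17971200, 42456960, 174182400, 251596800, 4585351680,
        4952179814400])
    hN (by norm_num) (by norm_num) (by norm_num) (by decide +kernel) (by decide +kernel)
    (H134.OmegaThree.omega_plus_three hF) hout.le
  have h2 : (subR 4952179814400 [(2, 12), (3, 12), (5, 2), (7, 1), (13, 1)] [(13, 1, 6)] [2, 3, 5, 7, 13]
      [60, 168, 360, 504, 1092, 2520, 5616, 6048, 7800, 9828, 20160, 25920, 29120, 62400, 181440, 262080, 604800,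
        1451520, 1814400, 3265920, 4245696, 6065280, 17971200, 42456960, 174182400, 251596800, 4585351680,
        4952179814400] 24).all (fun h => Nat.gcd (4952179814400 / h) 1600 == 1600) = true := by
    decide +kernel
  rw [List.all_eq_true] at h2
  have h3 := h2 _ h1
  rw [beq_iff_eq] at h3
  have h4 : 4952179814400 / Nat.card L = L.index := by
    rw [← hN, ← L.card_mul_index, Nat.mul_div_cancel_left _ Nat.card_pos]
  rw [h4] at h3
  exact Five.false_of_reg hF hc hout h (h3 ▸ Nat.gcd_dvd_left _ _)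

end Cfsg.Agent.H503.BG
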