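import Cfsg.Agent.H503.BG.Full
import Cfsg.Agent.H503.BG.Comm
import Cfsg.Agent.H503.El.Sp8
import Cfsg.Agent.H732.SelfCent
import Cfsg.Agent.H152.AbClassical
import Cfsg.Agent.S0270
import Cfsg.Agent.S0814
import Cfsg.Agent.S2469
import Cfsg.Agent.S2472

/-!
# Abelian regular subgroups (S3561): the small groups `PSp₂ₘ(q)` (helper503)
-/

set_option autoImplicit false
set_option maxRecDepth 100000

namespace Cfsg.Agent.H503.BG

open Subgroup Cfsg.Agent.H970.StabNum Cfsg.Agent Cfsg.Agent.H57.BG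

theorem card_psp' {F : Type} [Field F] [Fintype F] {q : ℕ} (hF : Fintype.card F = q) {n N : ℕ} (hn : 1 ≤ n)
    (h : q ^ (n ^ 2) * ∏ i ∈ Finset.range n, (q ^ (2 * (i + 1)) - 1) = N * Nat.gcd 2 (q - 1)) :
    Nat.card (PSp n F) = N := by
  have h2 := H732.SelfCent.card_psp hF hn
  rw [h] at h2
  exact Nat.eq_of_mul_eq_mul_right (Nat.gcd_pos_of_pos_left _ (by norm_num)) h2

theorem card_s44 {F : Type} [Field F] [Fintype F] (hF : Fintype.card F = 4) : Nat.card (PSp 2 F) = 979200 :=
  card_psp' hF (by norm_num) (by decide)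

theorem card_s45 {F : Type} [Field F] [Fintype F] (hF : Fintype.card F = 5) : Nat.card (PSp 2 F) = 4680000 :=
  card_psp' hF (by norm_num) (by decide)

theorem card_s62 {F : Type} [Field F] [Fintype F] (hF : Fintype.card F = 2) : Nat.card (PSp 3 F) = 1451520 :=
  card_psp' hF (by norm_num) (by decide)

theorem card_s63 {F : Type} [Field F] [Fintype F] (hF : Fintype.card F = 3) : Nat.card (PSp 3 F) = 4585351680 :=
  card_psp' hF (by norm_num) (by decide)

theorem card_s82 {F : Type} [Field F] [Fintype F] (hF : Fintype.card F = 2) : Nat.card (PSp 4 F) = 47377612800 :=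
  card_psp' hF (by norm_num) (by decide)

theorem out_psp {F : Type} [Field F] [Fintype F] (p f : ℕ) [Fact p.Prime] (hf : 1 ≤ f) (hF : Fintype.card F = p ^ f)
    {m : ℕ} (hm : 2 ≤ m) (h22 : m = 2 → 3 ≤ p ^ f) (hc : center (PSp m F) = ⊥) :
    (Inn (PSp m F)).index = (if m = 2 ∧ p = 2 then 2 else 1) * Nat.gcd 2 (p ^ f - 1) * f :=
  index_of_card hc (S0814.result p f hf hF m hm h22)

theorem selfcent_s44 {F : Type} [Field F] [Fintype F] (hF : Fintype.card F = 4) :
    ∃ P : Subgroup (PSp 2 F), Nat.card P = 17 ∧ centralizer (P : Set (PSp 2 F)) = P := by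
  haveI : Fact (Nat.Prime 2) := ⟨Nat.prime_two⟩
  haveI : CharP F 2 := charP_of_card_eq_prime_pow (f := 2) (by rw [hF]; norm_num)
  have hc := card_s44 hF
  have o17 : orderOf ((4 : ℕ) : ZMod 17) = 4 := H732.SelfCent.ord_eq (by norm_num) (by decide) (by decide)
  have o5 : orderOf ((4 : ℕ) : ZMod 5) = 2 := H732.SelfCent.ord_eq (by norm_num) (by decide) (by decide)
  have o3 : orderOf ((4 : ℕ) : ZMod 3) = 1 := H732.SelfCent.ord_eq (by norm_num) (by decide) (by decide)
  refine H732.SelfCent.selfcent_of_orders (by norm_num) (by rw [hc]; norm_num) (by rw [hc]; norm_num)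
      (fun s hs hsd hne g => ?_)
  have hs2 : s = 2 ∨ s = 3 ∨ s = 5 := by
    have h1 : s ∣ 2 ^ 8 * 3 ^ 2 * 5 ^ 2 * 7 ^ 0 * 11 ^ 0 * 13 ^ 0 * 17 ^ 1 * 31 ^ 0 := by
      rw [hc] at hsd
      exact hsd.trans (by norm_num)
    rcases H732.SelfCent.small_primes hs h1 with ⟨h, -⟩ | ⟨h, -⟩ | ⟨h, -⟩ | ⟨-, h⟩ | ⟨-, h⟩ | ⟨-, h⟩ | ⟨h, -⟩ | ⟨-, h⟩
    · exact Or.inl h
    · exact Or.inr (Or.inl h)
    · exact Or.inr (Or.inr h)
    · exact absurd rfl h
    · exact absurd rfl h
    · exact absurd rfl h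
    · exact absurd h hne
    · exact absurd rfl h
  rcases hs2 with rfl | rfl | rfl
  · have h := (S2472.result (F := F) 2 2 le_rfl (fun _ => by rw [hF]; norm_num) 17 (by norm_num) (by norm_num)
      (by norm_num) (by rw [hc]; norm_num) 4 2 (by rw [hF]; exact o17.symm) (by decide)).2 (by norm_num)
    intro hg
    exact h ⟨g, hg⟩
  · have h := (S2469.result (F := F) 2 2 le_rfl (fun _ => by rw [hF]; norm_num) 3 17 (by norm_num) (by norm_num)
      (by norm_num) (by norm_num) (by norm_num) (by norm_num) (by norm_num) (by rw [hc]; norm_num)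
      (by rw [hc]; norm_num) 1 4 1 2 (by rw [hF]; exact o3.symm) (by rw [hF]; exact o17.symm) (by decide) (by decide)
      (by norm_num)).2 ⟨by norm_num, by rintro ⟨t, ht, h⟩; obtain ⟨u, rfl⟩ := ht; omega⟩
    intro hg
    exact h ⟨g, by rw [hg]⟩
  · have h := (S2469.result (F := F) 2 2 le_rfl (fun _ => by rw [hF]; norm_num) 5 17 (by norm_num) (by norm_num)
      (by norm_num) (by norm_num) (by norm_num) (by norm_num) (by norm_num) (by rw [hc]; norm_num)
      (by rw [hc]; norm_num) 2 4 1 2 (by rw [hF]; exact o5.symm) (by rw [hF]; exact o17.symm) (by decide) (by decide)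
      (by norm_num)).2 ⟨by norm_num, by rintro ⟨t, ht, h⟩; obtain ⟨u, rfl⟩ := ht; omega⟩
    intro hg
    exact h ⟨g, by rw [hg]⟩

variable (OT : OrdDiv.OrderTable.{0})
  (hS : ∀ (X : Type) [Group X] [Finite X] [IsSimpleGroup X], Cfsg.IsKnownSimple' X)

include OT hS

theorem row_s44 (F : Type) [Field F] [Fintype F] (hF : Fintype.card F = 4) : Row (PSp 2 F) := by
  haveI : IsSimpleGroup (PSp 2 F) := S0270.result 2 (by norm_num) (by omega)
  haveI : Fact (Nat.Prime 2) := ⟨by norm_num⟩
  have hc := center_bot (card_s44 hF) (p := 2) (by norm_num) (by norm_num) (by norm_num)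
  exact row_of_ex3 OT hS (p := 17) (M := 4) (l := [(2,8),(3,2),(5,2),(17,1)]) (ps := [2, 3, 5, 17])
    (tbl := [60, 360, 2448, 4080, 979200]) (card_s44 hF) (by norm_num) (by norm_num) (by norm_num) (by norm_num)
    (by decide +kernel) (by decide +kernel) (selfcent_s44 hF)
    (H152.AbClassical.ab3_PSp le_rfl (by omega)) (out_psp 2 2 (by norm_num) (by rw [hF]; norm_num) le_rfl (by norm_num) hc)
    (by decide +kernel)

theorem row_s63 (F : Type) [Field F] [Fintype F] (hF : Fintype.card F = 3) : Row (PSp 3 F) := by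
  haveI : IsSimpleGroup (PSp 3 F) := S0270.result 3 (by norm_num) (by omega)
  exact row_of_ex' OT hS (p := 13) (M := 6) (l := [(2,9),(3,9),(5,1),(7,1),(13,1)]) (ps := [2, 3, 5, 7, 13])
    (tbl := [60, 168, 360, 504, 1092, 2520, 5616, 6048, 9828, 20160, 25920, 29120, 181440, 262080, 1451520, 3265920,
      4245696, 6065280, 42456960, 4585351680]) (card_s63 hF) (by norm_num) (by norm_num) (by norm_num) (by norm_num)
    (by decide +kernel) (by decide +kernel) (H732.SelfCent.psp_selfcent 3 3 13 (by simp) F hF)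
    (by decide +kernel)

theorem row_s82 (F : Type) [Field F] [Fintype F] (hF : Fintype.card F = 2) : Row (PSp 4 F) := by
  haveI : IsSimpleGroup (PSp 4 F) := S0270.result 4 (by norm_num) (by omega)
  have hself : ∃ P : Subgroup (PSp 4 F), Nat.card P = 17 ∧ centralizer (P : Set (PSp 4 F)) = P :=
    H732.SelfCent.selfcent_of_orders (by norm_num) (by rw [card_s82 hF]; norm_num) (by rw [card_s82 hF]; norm_num)
      (fun s hs hsd hne g => H732.SelfCent.psp_eight_orders hF hs hsd hne g)
  exact row_of_ex' OT hS (p := 17) (M := 8) (l := [(2, 16), (3, 5), (5, 2), (7, 1), (17, 1)]) (ps := [2, 3, 5, 7, 17])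
    (tbl := [60, 168, 360, 504, 2448, 2520, 4080, 6048, 20160, 25920, 181440, 604800, 979200, 1451520, 1814400,
      174182400, 197406720, 987033600, 47377612800]) (card_s82 hF) (by norm_num) (by norm_num) (by norm_num)
    (by norm_num) (by decide +kernel) (by decide +kernel) hself (by decide +kernel)

/-- `PSp₄(5)` -/
theorem row_s45 (F : Type) [Field F] [Fintype F] (hF : Fintype.card F = 5) : Row (PSp 2 F) := by
  classical
  haveI : IsSimpleGroup (PSp 2 F) := S0270.result 2 (by norm_num) (by omega)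
  haveI : Fact (Nat.Prime 5) := ⟨by norm_num⟩
  haveI h13p : Fact (Nat.Prime 13) := ⟨by norm_num⟩
  have hc := center_bot (card_s45 hF) (p := 2) (by norm_num) (by norm_num) (by norm_num)
  have h3 := H152.AbClassical.ab3_PSp (F := F) (m := 2) le_rfl (by omega)
  have hex := H732.SelfCent.psp_selfcent 2 5 13 (by simp) F hF
  intro A L h
  have h1 := mem_of_ex3 h OT hS hc (p := 13) (M := 4) (l := [(2,6),(3,2),(5,4),(13,1)]) (ps := [2, 3, 5, 13])
    (tbl := [60, 360, 7800, 62400, 4680000]) (card_s45 hF) (by norm_num) (by norm_num)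
    (by norm_num) (by decide +kernel) (by decide +kernel) hex h3
    (out_psp 5 1 le_rfl (by rw [hF]; norm_num) le_rfl (by norm_num) hc)
  have h2 : (((subR 4680000 [(2,6),(3,2),(5,4),(13,1)] [(13, 1, 4)] [2, 3, 5, 13]
      [60, 360, 7800, 62400, 4680000] ((if 2 = 2 ∧ 5 = 2 then 2 else 1) * Nat.gcd 2 (5 ^ 1 - 1) * 1)).filter
      fun h => !kill3 4680000 [(2,6),(3,2),(5,4),(13,1)]
        ((if 2 = 2 ∧ 5 = 2 then 2 else 1) * Nat.gcd 2 (5 ^ 1 - 1) * 1) h).all
      fun h => h == 16250 || h == 32500) = true := by decide +kernel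
  rw [List.all_eq_true] at h2
  have h2' := h2 _ h1
  rw [Bool.or_eq_true, beq_iff_eq, beq_iff_eq] at h2'
  have hent := El.entry_of_ex (by norm_num) (card_s45 hF) (by norm_num) (by norm_num) (M := 4) (by decide +kernel) hex
  have hL13 : 13 ∣ Nat.card L := by rcases h2' with h2 | h2 <;> rw [h2] <;> norm_num
  have hL169 : ¬ 13 ^ 2 ∣ Nat.card L := by rcases h2' with h2 | h2 <;> rw [h2] <;> norm_num
  obtain ⟨x, hx⟩ := exists_prime_orderOf_dvd_card' 13 hL13
  have hP : Nat.card (zpowers x) = 13 := by rw [Nat.card_zpowers, hx]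
  obtain ⟨L₁, hLn, B, hBn, hs, hB13, hPL, hcard, h13, D, m, hN, hDC, hDA, hpow⟩ :=
    El.Struct.exists_struct' hP hL169
  have hPm : Nat.card ((zpowers x).map L.subtype) = 13 := by
    rw [← hP]
    exact (Nat.card_congr ((zpowers x).equivMapOfInjective _ L.subtype_injective).toEquiv).symm
  have hC13 : Nat.card (centralizer ((zpowers x : Subgroup L) : Set L)) ∣ 13 :=
    (El.Fix.card_cent_map L.subtype_injective _).trans (by simpa using (hent _ hPm).1)
  have hN52 : Nat.card (normalizer ((zpowers x : Subgroup L) : Set L)) ∣ 52 :=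
    (El.Fix.card_norm_map L.subtype_injective _).trans (hent _ hPm).2
  have hD1 : D = 1 := by
    rcases (Nat.dvd_prime h13p.out).1 (hDC.trans hC13) with h3 | h3
    · exact h3
    · exact absurd (h3 ▸ hDA) hB13
  subst hD1
  have hc4 : L₁.index ∣ 4 := by
    rw [hN] at hN52
    have h3 : L₁.index * m * 13 ∣ 4 * 13 := by
      have h4 : L₁.index * (1 * (13 * m)) = L₁.index * m * 13 := by ring
      rw [h4] at hN52
      exact hN52
    exact (Dvd.intro _ rfl).trans (Nat.dvd_of_mul_dvd_mul_right (by norm_num) h3)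
  have hpow' : ∀ r : ℕ, r.Prime → r ^ ((Nat.card B).factorization r) ≡ 1 [MOD 13] := by
    intro r hr
    obtain ⟨j, hj, hj'⟩ := hpow r hr
    rwa [Nat.dvd_one.1 hj] at hj'
  set a := Nat.card B with ha
  set s := Nat.card (L₁ ⧸ B) with hsd
  have ha0 : a ≠ 0 := (Nat.card_pos (α := B)).ne'
  have hsL : s ∣ Nat.card L := ⟨a * L₁.index, by rw [hcard]; ring⟩
  -- the simple group is abelian
  have hab : ∀ u v : L₁ ⧸ B, u * v = v * u := by
    by_contra hna
    have hD : Data (PSp 2 F) [(13, 1, 4)] [2, 3, 5, 13] [60, 360, 7800, 62400, 4680000] := by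
      refine El.mk_data OT hS (l := [(2,6),(3,2),(5,4),(13,1)]) (card_s45 hF) (by decide +kernel) ?_
      intro y hy
      rw [List.mem_singleton] at hy
      subst hy
      exact hent
    have h4 := hD.tbl (L₁ ⧸ B) hs hna (hsL.trans (Subgroup.card_subgroup_dvd_card L))
    have h5 : ∀ s ∈ [60, 360, 7800, 62400, 4680000], ¬ s ∣ 32500 := by decide
    apply h5 _ h4
    rcases h2' with h2 | h2 <;> rw [h2] at hsL
    · exact hsL.trans (by norm_num)
    · exact hsL
  have hs13 : s = 13 := by
    letI : CommGroup (L₁ ⧸ B) := { (inferInstance : Group (L₁ ⧸ B)) with mul_comm := hab }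
    have h3 : s.Prime := IsSimpleGroup.prime_card (α := L₁ ⧸ B)
    exact ((Nat.prime_dvd_prime_iff_eq h13p.out h3).1 h13).symm
  -- `|B| = 625`
  have hacd : a * L₁.index = 1250 ∨ a * L₁.index = 2500 := by
    rcases h2' with h2 | h2 <;> rw [hcard, hs13] at h2
    · left; nlinarith
    · right; nlinarith
  have h2a : ¬ 2 ∣ a := by
    intro h3
    have h4 := hpow' 2 Nat.prime_two
    have h5 : 1 ≤ a.factorization 2 := (Nat.prime_two.dvd_iff_one_le_factorization ha0).1 h3
    have h6 : ¬ 3 ≤ a.factorization 2 := by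
      intro h6
      have h7 : 2 ^ 3 ∣ a := (Nat.prime_two.pow_dvd_iff_le_factorization ha0).2 h6
      have h8 : 2 ^ 3 ∣ a * L₁.index := h7.mul_right _
      rcases hacd with h9 | h9 <;> rw [h9] at h8 <;> exact absurd h8 (by norm_num)
    generalize a.factorization 2 = v at h4 h5 h6
    have h9 : v < 3 := by omega
    unfold Nat.ModEq at h4
    interval_cases v <;> omega
  have ha625 : a = 5 ^ 4 := by
    have h4 : L₁.index = 1 ∨ L₁.index = 2 ∨ L₁.index = 4 := by
      have h5 : L₁.index ≤ 4 := Nat.le_of_dvd (by norm_num) hc4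
      have h6 : 0 < L₁.index := Nat.pos_of_ne_zero Subgroup.index_ne_zero_of_finite
      have : ∀ d ≤ 4, 0 < d → d ∣ 4 → d = 1 ∨ d = 2 ∨ d = 4 := by decide
      exact this _ h5 h6 hc4
    rcases hacd with h5 | h5 <;> rcases h4 with h6 | h6 | h6 <;> rw [h6] at h5 <;> omega
  -- `B` is abelian
  have hxL : x ∈ L₁ := hPL (mem_zpowers x)
  have hcomm := comm_of_fpf B h13p.out (by norm_num : Nat.Prime 5) ha625 ⟨x, hxL⟩
    (by rw [Subgroup.orderOf_mk, hx]) (by
      intro b hb hxb
      have h5 : (b : L) ∈ centralizer ((zpowers x : Subgroup L) : Set L) := by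
        rw [zpowers_eq_closure, centralizer_closure, mem_centralizer_singleton_iff]
        exact (congrArg Subtype.val hxb).symm
      have h6 := (Subgroup.orderOf_dvd_natCard _ h5).trans hC13
      rw [Subgroup.orderOf_coe] at h6
      rcases (Nat.dvd_prime h13p.out).1 h6 with h7 | h7
      · exact orderOf_eq_one_iff.1 h7
      · exfalso
        apply hB13
        rw [← h7]
        exact Subgroup.orderOf_dvd_natCard B hb) (by
      intro j hj hmod
      unfold Nat.ModEq at hmod
      interval_cases j <;> omega)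
  -- the image in `T`
  let f : L₁ →* PSp 2 F := L.subtype.comp L₁.subtype
  have hf : Function.Injective f := L.subtype_injective.comp L₁.subtype_injective
  have hcB : IsMulCommutative (B.map f) := by
    refine ⟨⟨?_⟩⟩
    rintro ⟨_, ⟨b, hb, rfl⟩⟩ ⟨_, ⟨b', hb', rfl⟩⟩
    apply Subtype.ext
    show f b * f b' = f b' * f b
    rw [← map_mul, hcomm b hb b' hb', map_mul]
  have h9 := h3 (B.map f) hcB
  rw [Subgroup.card_map_of_injective hf, card_s45 hF, ← ha, ha625] at h9
  exact absurd h9 (by norm_num)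

end Cfsg.Agent.H503.BG
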