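import Cfsg.Agent.H503.BG.Sp6
import Cfsg.Agent.H503.BG.RowsS

/-!
# Abelian regular subgroups (S3561): `PSp₆(2)` (helper503)
-/

set_option autoImplicit false
set_option maxRecDepth 100000

namespace Cfsg.Agent.H503.BG

open Subgroup Cfsg.Agent.H970.StabNum Cfsg.Agent Cfsg.Agent.H57.BG

/-- the natural representation of `PSp₆(2)` -/
noncomputable def rho6 : PSp 3 (ZMod 2) →* Module.End (ZMod 2) (Fin 3 ⊕ Fin 3 → ZMod 2) :=
  (((Matrix.toLinAlgEquiv' : Matrix (Fin 3 ⊕ Fin 3) (Fin 3 ⊕ Fin 3) (ZMod 2) ≃ₐ[ZMod 2] _).toAlgHom :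
    Matrix (Fin 3 ⊕ Fin 3) (Fin 3 ⊕ Fin 3) (ZMod 2) →* Module.End (ZMod 2) (Fin 3 ⊕ Fin 3 → ZMod 2)).comp
      (El.spMat 3)).comp (El.pspEquiv (m := 3) (by norm_num)).symm.toMonoidHom

theorem rho6_injective : Function.Injective rho6 := fun x y h => by
  have h1 := (Matrix.toLinAlgEquiv' : Matrix (Fin 3 ⊕ Fin 3) (Fin 3 ⊕ Fin 3) (ZMod 2) ≃ₐ[ZMod 2] _).injective h
  exact (El.pspEquiv (m := 3) (by norm_num)).symm.injective (El.spMat_injective 3 h1)

variable (OT : OrdDiv.OrderTable.{0})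
  (hS : ∀ (X : Type) [Group X] [Finite X] [IsSimpleGroup X], Cfsg.IsKnownSimple' X)

include OT hS

theorem row_s62' : Row (PSp 3 (ZMod 2)) := by
  have hF : Fintype.card (ZMod 2) = 2 := ZMod.card 2
  haveI : IsSimpleGroup (PSp 3 (ZMod 2)) := S0270.result 3 (by norm_num) (by omega)
  haveI : Fact (Nat.Prime 2) := ⟨by norm_num⟩
  have hc := center_bot (card_s62 hF) (p := 2) (by norm_num) (by norm_num) (by norm_num)
  have h3 := H152.AbClassical.ab3_PSp (F := ZMod 2) (m := 3) (by norm_num) (by omega)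
  have hout := out_psp (F := ZMod 2) 2 1 le_rfl (by rw [hF]; norm_num) (m := 3) (by norm_num) (by norm_num) hc
  intro A L h
  have h1 := mem_of_ex3 h OT hS hc (p := 7) (M := 6) (l := [(2,9),(3,4),(5,1),(7,1)]) (ps := [2, 3, 5, 7])
    (tbl := [60, 168, 360, 504, 2520, 6048, 20160, 25920, 181440, 1451520]) (card_s62 hF) (by norm_num) (by norm_num)
    (by norm_num) (by decide +kernel) (by decide +kernel) (H732.SelfCent.psp_selfcent 3 2 7 (by simp) (ZMod 2) hF) h3
    hout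
  have hout1 : (Inn (PSp 3 (ZMod 2))).index = 1 := by rw [hout]; norm_num
  have h2 : (((subR 1451520 [(2,9),(3,4),(5,1),(7,1)] [(7, 1, 6)] [2, 3, 5, 7]
      [60, 168, 360, 504, 2520, 6048, 20160, 25920, 181440, 1451520]
      ((if 3 = 2 ∧ 2 = 2 then 2 else 1) * Nat.gcd 2 (2 ^ 1 - 1) * 1)).filter
      fun h => !kill3 1451520 [(2,9),(3,4),(5,1),(7,1)]
        ((if 3 = 2 ∧ 2 = 2 then 2 else 1) * Nat.gcd 2 (2 ^ 1 - 1) * 1) h).all
      fun h => h == 20160) = true := by decide +kernel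
  rw [List.all_eq_true] at h2
  have h2' := h2 _ h1
  rw [beq_iff_eq] at h2'
  have hidx : L.index = 72 := by
    have h4 := L.card_mul_index
    rw [h2', card_s62 hF] at h4
    omega
  have h5 := h.index_dvd hc
  rw [hidx, hout1, mul_one] at h5
  obtain ⟨x, y, hx, hy, hxo, hyo, hyx⟩ := h.exists_pair hc Nat.prime_three (by rw [hidx]; norm_num)
    (by rw [hout1]; norm_num)
  obtain ⟨Q, hQ⟩ := Sylow.exists_subgroup_card_pow_prime (G := inner A) 2 (n := 3)
    ((by norm_num : 2 ^ 3 ∣ 72).trans h5)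
  have hQA : Q.map (inner A).subtype ≤ inner A := Subgroup.map_subtype_le _
  refine Six.false_of_comm (Q := Q.map (inner A).subtype) rho6 ?_ rho6_injective hxo hyo (h.inner_comm hc hx hy) hyx ?_
    (fun q hq => h.inner_comm hc (hQA hq) hx) (fun q hq => h.inner_comm hc (hQA hq) hy)
  · rw [Module.finrank_fintype_fun_eq_card, Fintype.card_sum, Fintype.card_fin]
  · rw [Subgroup.card_map_of_injective (inner A).subtype_injective, hQ]
    norm_num

/-- `PSp₆(2)` -/
theorem row_s62 (F : Type) [Field F] [Fintype F] (hF : Fintype.card F = 2) : Row (PSp 3 F) :=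
  Row.congr (Cfsg.Agent.LieClassical.FieldTransfer.pspCongr 3 (ZMod.ringEquivOfPrime F Nat.prime_two hF)).symm
    (row_s62' OT hS)

end Cfsg.Agent.H503.BG
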