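import Cfsg.Agent.H503.BG.Full
import Cfsg.Agent.H732.SelfCent
import Cfsg.Agent.H934.OutCl
import Cfsg.Agent.S0254
import Cfsg.Agent.S0256
import Cfsg.Agent.S0813
import Cfsg.Agent.S2119
import Cfsg.Agent.S2466
import Cfsg.Agent.S2467

/-!
# Abelian regular subgroups (S3561): `A₅`, `A₆`, `A₇`, `A₈` (helper503)
-/

set_option autoImplicit false
set_option maxRecDepth 100000

namespace Cfsg.Agent.H503.BG

open Subgroup Cfsg Cfsg.Agent Cfsg.Agent.H57.BG Cfsg.Agent.H970.StabNum

theorem card_alt' {n N : ℕ} (hn : 2 ≤ n) (h : n.factorial = 2 * N) : Nat.card (alternatingGroup (Fin n)) = N := by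
  have : Nontrivial (Fin n) := Fin.nontrivial_iff_two_le.2 hn
  have h1 := two_mul_nat_card_alternatingGroup (α := Fin n)
  rw [Nat.card_perm, Nat.card_eq_fintype_card (α := Fin n), Fintype.card_fin] at h1
  omega

theorem simple_alt {n : ℕ} (hn : 5 ≤ n) : IsSimpleGroup (alternatingGroup (Fin n)) :=
  alternatingGroup.isSimpleGroup (by rw [Nat.card_eq_fintype_card, Fintype.card_fin]; exact hn)

theorem out_alt {n : ℕ} (hn : 5 ≤ n) (h6 : n ≠ 6) (hc : center (alternatingGroup (Fin n)) = ⊥) :
    (Inn (alternatingGroup (Fin n))).index = 2 := by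
  apply index_of_card hc
  have : Nontrivial (Fin n) := Fin.nontrivial_iff_two_le.2 (by omega)
  rw [← Nat.card_congr (Equiv.ofBijective _ (S2119.result n (by omega) h6)), two_mul_nat_card_alternatingGroup]

theorem card_aut_six : Nat.card (MulAut (alternatingGroup (Fin 6))) = 4 * Nat.card (alternatingGroup (Fin 6)) := by
  have : Fact (Nat.Prime 3) := ⟨Nat.prime_three⟩
  have h1 : Nat.card (GaloisField 3 2) = 9 := by
    rw [GaloisField.card 3 2 (by norm_num)]
    norm_num
  have : Fintype (GaloisField 3 2) := Fintype.ofFinite _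
  rw [Nat.card_eq_fintype_card] at h1
  obtain ⟨e⟩ := Cfsg.Agent.S0254.result (F := GaloisField 3 2) h1
  rw [← Nat.card_congr (MulAut.congr e).toEquiv]
  have h2 := Cfsg.Agent.S0813.result (F := GaloisField 3 2) 3 2 (by norm_num) (by rw [h1]; norm_num) 2 (le_refl 2)
    (fun _ => by norm_num)
  rw [h2, if_pos rfl, H934.OutCl.card_pgl (le_refl 2), h1, Nat.card_congr e.toEquiv,
    card_alt' (N := 360) (by norm_num) (by decide)]
  norm_num

theorem selfcent_seven {n : ℕ} (hn : n = 7 ∨ n = 8) :
    ∃ R : Subgroup (alternatingGroup (Fin n)), Nat.card R = 7 ∧ centralizer (R : Set (alternatingGroup (Fin n))) = R := by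
  have hc : Nat.card (alternatingGroup (Fin n)) ∣ 20160 := by
    rcases hn with rfl | rfl
    · rw [card_alt' (N := 2520) (by norm_num) (by decide)]; norm_num
    · rw [card_alt' (N := 20160) (by norm_num) (by decide)]
  have h7 : 7 ∣ Nat.card (alternatingGroup (Fin n)) := by
    rcases hn with rfl | rfl
    · rw [card_alt' (N := 2520) (by norm_num) (by decide)]; norm_num
    · rw [card_alt' (N := 20160) (by norm_num) (by decide)]; norm_num
  refine H732.SelfCent.selfcent_of_orders (by norm_num) h7 (fun h => absurd (h.trans hc) (by norm_num))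
    (fun s hs hsd hne g => ?_)
  have hs2 : s = 2 ∨ s = 3 ∨ s = 5 := by
    have h1 : s ∣ 2 ^ 6 * 3 ^ 2 * 5 ^ 1 * 7 ^ 1 := (hsd.trans hc).trans (by norm_num)
    rcases hs.dvd_mul.1 h1 with h1 | h1
    · rcases hs.dvd_mul.1 h1 with h1 | h1
      · rcases hs.dvd_mul.1 h1 with h1 | h1
        · exact Or.inl ((Nat.prime_dvd_prime_iff_eq hs Nat.prime_two).1 (hs.dvd_of_dvd_pow h1))
        · exact Or.inr (Or.inl ((Nat.prime_dvd_prime_iff_eq hs Nat.prime_three).1 (hs.dvd_of_dvd_pow h1)))
      · exact Or.inr (Or.inr ((Nat.prime_dvd_prime_iff_eq hs Nat.prime_five).1 (hs.dvd_of_dvd_pow h1)))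
    · exact absurd ((Nat.prime_dvd_prime_iff_eq hs (by norm_num)).1 (hs.dvd_of_dvd_pow h1)) hne
  intro hg
  rcases hs2 with rfl | rfl | rfl
  · have h := (S2467.result n 7 (by omega) (by norm_num) (by norm_num) (by omega)).1 ⟨g, by rw [hg]⟩
    omega
  · have h := (S2466.result n 7 3 (by norm_num) (by norm_num) (by norm_num) (by norm_num) (by norm_num) (by omega)
      (by omega)).1 ⟨g, hg⟩
    omega
  · have h := (S2466.result n 7 5 (by norm_num) (by norm_num) (by norm_num) (by norm_num) (by norm_num) (by omega)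
      (by omega)).1 ⟨g, hg⟩
    omega

/-- `A₅` -/
theorem row_a5 : Row (alternatingGroup (Fin 5)) := by
  haveI := simple_alt (n := 5) le_rfl
  intro A L h
  obtain ⟨r, s, hr, hs, hrs, hr2, hs2⟩ := h.exists_two_primes
  have hd : L.index ∣ 60 := by
    rw [← card_alt' (n := 5) (N := 60) (by norm_num) (by decide)]
    exact Subgroup.index_dvd_card L
  have key : ∀ t : ℕ, t.Prime → t ^ 2 ∣ L.index → t = 2 := by
    intro t ht h2
    have h3 : t ^ 2 ∣ 2 ^ 2 * 15 := h2.trans hd
    by_contra hne
    have h4 : Nat.Coprime (t ^ 2) (2 ^ 2) := Nat.Coprime.pow _ _ ((Nat.coprime_primes ht Nat.prime_two).2 hne)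
    have h5 : t ^ 2 ∣ 15 := h4.dvd_of_dvd_mul_left h3
    have h6 := Nat.le_of_dvd (by norm_num) h5
    have h7 : t < 4 := by nlinarith
    have h8 := ht.two_le
    interval_cases t
    · exact hne rfl
    · exact absurd h5 (by norm_num)
  exact hrs ((key r hr hr2).trans (key s hs hs2).symm)

variable (OT : OrdDiv.OrderTable.{0})
  (hS : ∀ (X : Type) [Group X] [Finite X] [IsSimpleGroup X], Cfsg.IsKnownSimple' X)

include OT hS

/-- `A₆` -/
theorem row_a6 : Row (alternatingGroup (Fin 6)) := by
  haveI := simple_alt (n := 6) (by norm_num)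
  have hN : Nat.card (alternatingGroup (Fin 6)) = 360 := card_alt' (by norm_num) (by decide)
  intro A L h
  have hc := center_bot hN (p := 2) (by norm_num) (by norm_num) (by norm_num)
  have h1 := mem_subR h hc hN (l := [(2,3),(3,2),(5,1)]) (data := []) (ps := [2,3,5]) (tbl := [60,360]) (out := 4)
    (by decide +kernel) (El.mk_data OT hS hN (l := [(2,3),(3,2),(5,1)]) (by decide +kernel) (by simp))
    (index_of_card hc card_aut_six).le
  rw [show subR 360 [(2,3),(3,2),(5,1)] [] [2,3,5] [60,360] 4 = [10] by decide +kernel, List.mem_singleton] at h1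
  have h2 := L.card_mul_index
  rw [h1, hN] at h2
  exact index_ne_sq h Nat.prime_two Nat.prime_three (by norm_num) (by omega)

/-- `A₇` -/
theorem row_a7 : Row (alternatingGroup (Fin 7)) := by
  haveI := simple_alt (n := 7) (by norm_num)
  have hN : Nat.card (alternatingGroup (Fin 7)) = 2520 := card_alt' (by norm_num) (by decide)
  exact row_of_ex OT hS (p := 7) (M := 3) (l := [(2,3),(3,2),(5,1),(7,1)]) (ps := [2, 3, 5, 7])
    (tbl := [60, 168, 360, 504, 2520]) hN (by norm_num) (by norm_num) (by norm_num) (by norm_num)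
    (by decide +kernel) (by decide +kernel) (selfcent_seven (Or.inl rfl))
    (out_alt (by norm_num) (by norm_num) (center_bot hN (p := 2) (by norm_num) (by norm_num) (by norm_num))).le
    (by decide +kernel)

/-- `A₈` -/
theorem row_a8 : Row (alternatingGroup (Fin 8)) := by
  haveI := simple_alt (n := 8) (by norm_num)
  have hN : Nat.card (alternatingGroup (Fin 8)) = 20160 := card_alt' (by norm_num) (by decide)
  exact row_of_ex OT hS (p := 7) (M := 3) (l := [(2,6),(3,2),(5,1),(7,1)]) (ps := [2, 3, 5, 7])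
    (tbl := [60, 168, 360, 504, 2520, 20160]) hN (by norm_num) (by norm_num) (by norm_num) (by norm_num)
    (by decide +kernel) (by decide +kernel) (selfcent_seven (Or.inr rfl))
    (out_alt (by norm_num) (by norm_num) (center_bot hN (p := 2) (by norm_num) (by norm_num) (by norm_num))).le
    (by decide +kernel)

/-- `PSL₄(2)` -/
theorem row_psl42 (F : Type) [Field F] [Fintype F] (hF : Fintype.card F = 2) :
    Row (Matrix.ProjectiveSpecialLinearGroup (Fin 4) F) := by
  obtain ⟨e⟩ := S0256.result (F := F) hF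
  exact Row.congr e (row_a8 OT hS)

end Cfsg.Agent.H503.BG
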