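import Cfsg.Agent.H503.BG.Full
import Cfsg.Agent.H809.SelfCentPSU
import Cfsg.Agent.H498.Ab.RowU
import Cfsg.Agent.H251.Small.Main
import Cfsg.Agent.S0280
import Cfsg.Agent.S0283
import Cfsg.Agent.S0815

/-!
# Abelian regular subgroups (S3561): the small groups `Uₙ(q)` (helper503)
-/

set_option autoImplicit false
set_option maxRecDepth 100000

namespace Cfsg.Agent.H503.BG

open Subgroup Cfsg.Agent.H970.StabNum Cfsg.Agent Cfsg.Agent.H57.BG

theorem card_psu {F : Type} [Field F] [Fintype F] {q : ℕ} (hF : Fintype.card F = q ^ 2) {n N : ℕ} (hn : 2 ≤ n)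
    (h : q ^ (n * (n - 1) / 2) * ∏ i ∈ Finset.range n, (if Even i then q ^ (i + 1) + 1 else q ^ (i + 1) - 1) =
      Nat.gcd n (q + 1) * ((q + 1) * N)) : Nat.card (PSU n F q) = N := by
  have h2 := S0280.result hF n hn
  rw [h] at h2
  have h3 := Nat.eq_of_mul_eq_mul_left (Nat.gcd_pos_of_pos_left _ (by omega)) h2
  exact Nat.eq_of_mul_eq_mul_left (by omega) h3

theorem out_psu {F : Type} [Field F] [Fintype F] (p f : ℕ) [Fact p.Prime] (hf : 1 ≤ f) {q : ℕ} (hq : q = p ^ f)
    (hF : Fintype.card F = q ^ 2) {n : ℕ} (hn : 3 ≤ n) (h32 : ¬ (n = 3 ∧ q = 2)) [Finite (PSU n F q)]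
    (hc : center (PSU n F q) = ⊥) : (Inn (PSU n F q)).index = Nat.gcd n (q + 1) * (2 * f) :=
  index_of_card hc (S0815.result p f hf hq hF n hn h32)

theorem card_u33 {F : Type} [Field F] [Fintype F] (hF : Fintype.card F = 3 ^ 2) : Nat.card (PSU 3 F 3) = 6048 :=
  card_psu hF (by norm_num) (by decide)

theorem card_u34 {F : Type} [Field F] [Fintype F] (hF : Fintype.card F = 4 ^ 2) : Nat.card (PSU 3 F 4) = 62400 :=
  card_psu hF (by norm_num) (by decide)

theorem card_u35 {F : Type} [Field F] [Fintype F] (hF : Fintype.card F = 5 ^ 2) : Nat.card (PSU 3 F 5) = 126000 :=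
  card_psu hF (by norm_num) (by decide)

theorem card_u38 {F : Type} [Field F] [Fintype F] (hF : Fintype.card F = 8 ^ 2) : Nat.card (PSU 3 F 8) = 5515776 :=
  card_psu hF (by norm_num) (by decide)

theorem card_u42 {F : Type} [Field F] [Fintype F] (hF : Fintype.card F = 2 ^ 2) : Nat.card (PSU 4 F 2) = 25920 :=
  card_psu hF (by norm_num) (by decide)

theorem card_u43 {F : Type} [Field F] [Fintype F] (hF : Fintype.card F = 3 ^ 2) : Nat.card (PSU 4 F 3) = 3265920 :=
  card_psu hF (by norm_num) (by decide)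

theorem card_u52 {F : Type} [Field F] [Fintype F] (hF : Fintype.card F = 2 ^ 2) : Nat.card (PSU 5 F 2) = 13685760 :=
  card_psu hF (by norm_num) (by decide)

theorem card_u62 {F : Type} [Field F] [Fintype F] (hF : Fintype.card F = 2 ^ 2) : Nat.card (PSU 6 F 2) = 9196830720 :=
  card_psu hF (by norm_num) (by decide)

variable (OT : OrdDiv.OrderTable.{0})
  (hS : ∀ (X : Type) [Group X] [Finite X] [IsSimpleGroup X], Cfsg.IsKnownSimple' X)

include OT hS

theorem row_u33 (F : Type) [Field F] [Fintype F] (hF : Fintype.card F = 3 ^ 2) : Row (PSU 3 F 3) := by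
  haveI : IsSimpleGroup (PSU 3 F 3) := S0283.result hF 3 le_rfl (by omega)
  haveI : Finite (PSU 3 F 3) := Nat.finite_of_card_ne_zero (by rw [card_u33 hF]; norm_num)
  haveI : Fact (Nat.Prime 3) := ⟨by norm_num⟩
  have hc := center_bot (card_u33 hF) (p := 2) (by norm_num) (by norm_num) (by norm_num)
  exact row_of_ex3 OT hS (p := 7) (M := 3) (l := [(2,5),(3,3),(7,1)]) (ps := [2, 3, 7])
    (tbl := [168, 504, 6048]) (card_u33 hF) (by norm_num) (by norm_num) (by norm_num) (by norm_num)
    (by decide +kernel) (by decide +kernel) (H809.SelfCent.psu_selfcent 3 3 7 (by simp) F hF)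
    (H498.Ab.RowU.ab3_PSU hF le_rfl (by omega)) (out_psu 3 1 le_rfl (by norm_num) hF le_rfl (by omega) hc)
    (by decide +kernel)

theorem row_u34 (F : Type) [Field F] [Fintype F] (hF : Fintype.card F = 4 ^ 2) : Row (PSU 3 F 4) := by
  haveI : IsSimpleGroup (PSU 3 F 4) := S0283.result hF 3 le_rfl (by omega)
  haveI : Finite (PSU 3 F 4) := Nat.finite_of_card_ne_zero (by rw [card_u34 hF]; norm_num)
  haveI : Fact (Nat.Prime 2) := ⟨by norm_num⟩
  have hc := center_bot (card_u34 hF) (p := 2) (by norm_num) (by norm_num) (by norm_num)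
  exact row_of_ex3 OT hS (p := 13) (M := 3) (l := [(2,6),(3,1),(5,2),(13,1)]) (ps := [2, 3, 5, 13])
    (tbl := [60, 7800, 62400]) (card_u34 hF) (by norm_num) (by norm_num) (by norm_num) (by norm_num)
    (by decide +kernel) (by decide +kernel)
    (H809.SelfCent.psu_irred hF (by norm_num) (by decide) (by norm_num) (by norm_num) (by norm_num) (by norm_num)
      (by norm_num) (k := 273) (by norm_num) (by norm_num) (by decide) (by norm_num) (by norm_num))
    (H498.Ab.RowU.ab3_PSU hF le_rfl (by omega)) (out_psu 2 2 (by norm_num) (by norm_num) hF le_rfl (by omega) hc)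
    (by decide +kernel)

theorem row_u35 (F : Type) [Field F] [Fintype F] (hF : Fintype.card F = 5 ^ 2) : Row (PSU 3 F 5) := by
  haveI : IsSimpleGroup (PSU 3 F 5) := S0283.result hF 3 le_rfl (by omega)
  haveI : Finite (PSU 3 F 5) := Nat.finite_of_card_ne_zero (by rw [card_u35 hF]; norm_num)
  haveI : Fact (Nat.Prime 5) := ⟨by norm_num⟩
  have hc := center_bot (card_u35 hF) (p := 2) (by norm_num) (by norm_num) (by norm_num)
  exact row_of_ex3 OT hS (p := 7) (M := 3) (l := [(2,4),(3,2),(5,3),(7,1)]) (ps := [2, 3, 5, 7])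
    (tbl := [60, 168, 360, 504, 2520, 126000]) (card_u35 hF) (by norm_num) (by norm_num) (by norm_num) (by norm_num)
    (by decide +kernel) (by decide +kernel) (H809.SelfCent.psu_selfcent 3 5 7 (by simp) F hF)
    (H498.Ab.RowU.ab3_PSU hF le_rfl (by omega)) (out_psu 5 1 le_rfl (by norm_num) hF le_rfl (by omega) hc)
    (by decide +kernel)

theorem row_u38 (F : Type) [Field F] [Fintype F] (hF : Fintype.card F = 8 ^ 2) : Row (PSU 3 F 8) := by
  haveI : IsSimpleGroup (PSU 3 F 8) := S0283.result hF 3 le_rfl (by omega)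
  haveI : Finite (PSU 3 F 8) := Nat.finite_of_card_ne_zero (by rw [card_u38 hF]; norm_num)
  exact row_of_ex' OT hS (p := 19) (M := 3) (l := [(2,9),(3,4),(7,1),(19,1)]) (ps := [2, 3, 7, 19])
    (tbl := [168, 504, 6048, 5515776]) (card_u38 hF) (by norm_num) (by norm_num) (by norm_num) (by norm_num)
    (by decide +kernel) (by decide +kernel)
    (H809.SelfCent.psu_irred hF (by norm_num) (by decide) (by norm_num) (by norm_num) (by norm_num) (by norm_num)
      (by norm_num) (k := 4161) (by norm_num) (by norm_num) (by decide) (by norm_num) (by norm_num))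
    (by decide +kernel)

theorem row_u42 (F : Type) [Field F] [Fintype F] (hF : Fintype.card F = 2 ^ 2) : Row (PSU 4 F 2) := by
  haveI : IsSimpleGroup (PSU 4 F 2) := S0283.result hF 4 (by omega) (by omega)
  haveI : Finite (PSU 4 F 2) := Nat.finite_of_card_ne_zero (by rw [card_u42 hF]; norm_num)
  haveI : Fact (Nat.Prime 2) := ⟨by norm_num⟩
  have hc := center_bot (card_u42 hF) (p := 2) (by norm_num) (by norm_num) (by norm_num)
  exact row_of_ex3 OT hS (p := 5) (M := 4) (l := [(2,6),(3,4),(5,1)]) (ps := [2, 3, 5])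
    (tbl := [60, 360, 25920]) (card_u42 hF) (by norm_num) (by norm_num) (by norm_num) (by norm_num)
    (by decide +kernel) (by decide +kernel) (H809.SelfCent.psu_selfcent 4 2 5 (by simp) F hF)
    (H498.Ab.RowU.ab3_PSU hF (by omega) (by omega)) (out_psu 2 1 le_rfl (by norm_num) hF (by omega) (by omega) hc)
    (by decide +kernel)

theorem row_u43 (F : Type) [Field F] [Fintype F] (hF : Fintype.card F = 3 ^ 2) : Row (PSU 4 F 3) := by
  haveI : IsSimpleGroup (PSU 4 F 3) := S0283.result hF 4 (by omega) (by omega)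
  haveI : Finite (PSU 4 F 3) := Nat.finite_of_card_ne_zero (by rw [card_u43 hF]; norm_num)
  haveI : Fact (Nat.Prime 3) := ⟨by norm_num⟩
  have hc := center_bot (card_u43 hF) (p := 2) (by norm_num) (by norm_num) (by norm_num)
  exact row_of_ex3 OT hS (p := 7) (M := 3) (l := [(2,7),(3,6),(5,1),(7,1)]) (ps := [2, 3, 5, 7])
    (tbl := [60, 168, 360, 504, 2520, 6048, 20160, 25920, 181440, 3265920]) (card_u43 hF) (by norm_num) (by norm_num)
    (by norm_num) (by norm_num) (by decide +kernel) (by decide +kernel)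
    (H809.SelfCent.psu_selfcent 4 3 7 (by simp) F hF)
    (H498.Ab.RowU.ab3_PSU hF (by omega) (by omega)) (out_psu 3 1 le_rfl (by norm_num) hF (by omega) (by omega) hc)
    (by decide +kernel)

theorem row_u62 (F : Type) [Field F] [Fintype F] (hF : Fintype.card F = 2 ^ 2) : Row (PSU 6 F 2) := by
  haveI : IsSimpleGroup (PSU 6 F 2) := S0283.result hF 6 (by omega) (by omega)
  haveI : Finite (PSU 6 F 2) := Nat.finite_of_card_ne_zero (by rw [card_u62 hF]; norm_num)
  haveI : Fact (Nat.Prime 2) := ⟨by norm_num⟩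
  have hc := center_bot (card_u62 hF) (p := 2) (by norm_num) (by norm_num) (by norm_num)
  exact row_of_ex3 OT hS (p := 11) (M := 5) (l := [(2,15),(3,6),(5,1),(7,1),(11,1)]) (ps := [2, 3, 5, 7, 11])
    (tbl := [60, 168, 360, 504, 660, 2520, 6048, 7920, 20160, 25920, 95040, 181440, 443520, 1451520, 3265920, 13685760,
      9196830720]) (card_u62 hF) (by norm_num) (by norm_num)
    (by norm_num) (by norm_num) (by decide +kernel) (by decide +kernel)
    (H809.SelfCent.psu_selfcent 6 2 11 (by simp) F hF)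
    (H498.Ab.RowU.ab3_PSU hF (by omega) (by omega)) (out_psu 2 1 le_rfl (by norm_num) hF (by omega) (by omega) hc)
    (by decide +kernel)

theorem row_u52 (F : Type) [Field F] [Fintype F] (hF : Fintype.card F = 2 ^ 2) : Row (PSU 5 F 2) := by
  haveI : IsSimpleGroup (PSU 5 F 2) := S0283.result hF 5 (by omega) (by omega)
  haveI : Finite (PSU 5 F 2) := Nat.finite_of_card_ne_zero (by rw [card_u52 hF]; norm_num)
  haveI : Fact (Nat.Prime 2) := ⟨by norm_num⟩
  have hc := center_bot (card_u52 hF) (p := 2) (by norm_num) (by norm_num) (by norm_num)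
  intro A L h
  have h1 := mem_of_ex3 h OT hS hc (p := 11) (M := 5) (l := [(2,10),(3,5),(5,1),(11,1)]) (ps := [2, 3, 5, 11])
    (tbl := [60, 360, 660, 7920, 25920, 95040, 13685760]) (card_u52 hF) (by norm_num) (by norm_num)
    (by norm_num) (by decide +kernel) (by decide +kernel)
    (H809.SelfCent.psu_irred hF (by norm_num) (by decide) (by norm_num) (by norm_num) (by norm_num) (by norm_num)
      (by norm_num) (k := 341) (by norm_num) (by norm_num) (by decide) (by norm_num) (by norm_num))
    (H498.Ab.RowU.ab3_PSU hF (by omega) (by omega)) (out_psu 2 1 le_rfl (by norm_num) hF (by omega) (by omega) hc)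
  have h2 : ((subR 13685760 [(2,10),(3,5),(5,1),(11,1)] [(11, 1, 5)] [2, 3, 5, 11]
    [60, 360, 660, 7920, 25920, 95040, 13685760] (Nat.gcd 5 (2 + 1) * (2 * 1))).filter
      fun h => !kill3 13685760 [(2,10),(3,5),(5,1),(11,1)] (Nat.gcd 5 (2 + 1) * (2 * 1)) h) = [95040] := by decide +kernel
  rw [h2, List.mem_singleton] at h1
  rcases H251.Small.pgap_u5 OT hS hF L h.proper with h3 | ⟨-, h3⟩
  · obtain ⟨r, hr, hd, hn⟩ := h3
    rw [card_u52 hF] at hd
    rw [h1] at hn
    exact hn (dvd_of_valid (l := [(2,10),(3,5),(5,1),(11,1)]) (by decide +kernel) (by decide +kernel) hr hd)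
  · omega

end Cfsg.Agent.H503.BG
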