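import Cfsg.Agent.H57.BG.Gap
import Cfsg.Agent.H57.BG.CD
import Cfsg.Agent.H503.El.Base

/-!
# Abelian regular subgroups: the order sieve for small groups (S3561) (helper503)

`mem_subR` : `Reg A L` forces `|L|` in an explicit list.
-/

set_option autoImplicit false

namespace Cfsg.Agent.H503.BG

open Subgroup Cfsg.Agent.H970.StabNum Cfsg.Agent Cfsg.Agent.H57.BG

universe u

/-- the index `n`: powerful, not a prime power, prime to the primes of exponent one, `n ^ 2 ≤ N out` -/
def okI (l : List (ℕ × ℕ)) (N out n : ℕ) : Bool :=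
  (l.all fun x => n % x.1 != 0 || (x.2 != 1 && n % (x.1 ^ 2) == 0)) &&
    ((l.any fun x => l.any fun y => x.1 != y.1 && (n % x.1 == 0 && n % y.1 == 0)) && Nat.ble (n ^ 2) (N * out))

/-- the possible orders of `L` -/
def subR (N : ℕ) (l : List (ℕ × ℕ)) (data : List (ℕ × ℕ × ℕ)) (ps tbl : List ℕ) (out : ℕ) : List ℕ :=
  (divs l).filter fun h => okI l N out (N / h) && feasAll data ps tbl h

theorem okI_of_reg {T : Type u} [Group T] [Finite T] [IsSimpleGroup T] {A : Subgroup (MulAut T)} {L : Subgroup T}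
    (h : Reg A L) (hc : center T = ⊥) {N out : ℕ} {l : List (ℕ × ℕ)} (hN : Nat.card T = N)
    (hv : OrdDiv.valid l N = true) (hout : (Inn T).index ≤ out) : okI l N out L.index = true := by
  have hsq : ∀ x ∈ l, x.1 ∣ L.index → x.2 ≠ 1 ∧ x.1 ^ 2 ∣ L.index := by
    intro x hx hd
    have h1 := h.sq_dvd (OrdDiv.valid_prime hv x hx) hd
    refine ⟨fun h2 => OrdDiv.valid_exact hv x hx ?_, h1⟩
    rw [h2, ← hN]
    exact h1.trans (Subgroup.index_dvd_card L)
  unfold okI
  refine bandI ?_ (bandI ?_ ?_)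
  · rw [List.all_eq_true]
    intro x hx
    by_cases h1 : x.1 ∣ L.index
    · obtain ⟨h2, h3⟩ := hsq x hx h1
      rw [Nat.mod_eq_zero_of_dvd h3]
      simp [h2]
    · have h2 : L.index % x.1 ≠ 0 := fun h3 => h1 (Nat.dvd_of_mod_eq_zero h3)
      simp [h2]
  · obtain ⟨r, s, hr, hs, hrs, hr2, hs2⟩ := h.exists_two_primes
    have hd : L.index ∣ N := by rw [← hN]; exact Subgroup.index_dvd_card L
    obtain ⟨k1, hk1, -⟩ := OrdDiv.exists_pair hv hr (j := 1) le_rfl
      ((pow_dvd_pow r one_le_two).trans (hr2.trans hd))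
    obtain ⟨k2, hk2, -⟩ := OrdDiv.exists_pair hv hs (j := 1) le_rfl
      ((pow_dvd_pow s one_le_two).trans (hs2.trans hd))
    rw [List.any_eq_true]
    refine ⟨_, hk1, ?_⟩
    rw [List.any_eq_true]
    refine ⟨_, hk2, bandI ?_ (bandI (beqI ?_) (beqI ?_))⟩
    · simpa using hrs
    · exact Nat.mod_eq_zero_of_dvd ((dvd_pow_self r two_ne_zero).trans hr2)
    · exact Nat.mod_eq_zero_of_dvd ((dvd_pow_self s two_ne_zero).trans hs2)
  · rw [Nat.ble_eq, ← hN]
    exact (h.index_sq_le hc).trans (Nat.mul_le_mul_left _ hout)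

theorem mem_subR {T : Type u} [Group T] [Finite T] [IsSimpleGroup T] {A : Subgroup (MulAut T)} {L : Subgroup T}
    (h : Reg A L) (hc : center T = ⊥) {N out : ℕ} {l : List (ℕ × ℕ)} {data : List (ℕ × ℕ × ℕ)} {ps tbl : List ℕ}
    (hN : Nat.card T = N) (hv : OrdDiv.valid l N = true) (D : Data T data ps tbl) (hout : (Inn T).index ≤ out) :
    Nat.card L ∈ subR N l data ps tbl out := by
  have h1 : N / Nat.card L = L.index := by
    rw [← hN, ← L.card_mul_index, Nat.mul_div_cancel_left _ Nat.card_pos]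
  unfold subR
  rw [List.mem_filter, h1]
  refine ⟨mem_divs_of_valid hv (by rw [← hN]; exact Subgroup.card_subgroup_dvd_card L), bandI (okI_of_reg h hc hN hv hout) (D.feas L)⟩

/-- without a bound for `|Out T|` -/
def okI' (l : List (ℕ × ℕ)) (n : ℕ) : Bool :=
  (l.all fun x => n % x.1 != 0 || (x.2 != 1 && n % (x.1 ^ 2) == 0)) &&
    (l.any fun x => l.any fun y => x.1 != y.1 && (n % x.1 == 0 && n % y.1 == 0))

/-- the possible orders of `L` -/
def subR' (N : ℕ) (l : List (ℕ × ℕ)) (data : List (ℕ × ℕ × ℕ)) (ps tbl : List ℕ) : List ℕ :=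
  (divs l).filter fun h => okI' l (N / h) && feasAll data ps tbl h

theorem mem_subR' {T : Type u} [Group T] [Finite T] [IsSimpleGroup T] {A : Subgroup (MulAut T)} {L : Subgroup T}
    (h : Reg A L) (hc : center T = ⊥) {N : ℕ} {l : List (ℕ × ℕ)} {data : List (ℕ × ℕ × ℕ)} {ps tbl : List ℕ}
    (hN : Nat.card T = N) (hv : OrdDiv.valid l N = true) (D : Data T data ps tbl) :
    Nat.card L ∈ subR' N l data ps tbl := by
  have h1 : N / Nat.card L = L.index := by
    rw [← hN, ← L.card_mul_index, Nat.mul_div_cancel_left _ Nat.card_pos]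
  unfold subR'
  rw [List.mem_filter, h1]
  refine ⟨mem_divs_of_valid hv (by rw [← hN]; exact Subgroup.card_subgroup_dvd_card L), bandI ?_ (D.feas L)⟩
  have h2 := okI_of_reg h hc hN hv le_rfl
  unfold okI at h2
  rw [Bool.and_eq_true, Bool.and_eq_true] at h2
  exact bandI h2.1 h2.2.1

/-- one self-centralizing subgroup of prime order -/
theorem mem_of_ex {T : Type u} [Group T] [Finite T] [IsSimpleGroup T] {A : Subgroup (MulAut T)} {L : Subgroup T}
    (h : Reg A L) (OT : OrdDiv.OrderTable.{u})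
    (hS : ∀ (X : Type u) [Group X] [Finite X] [IsSimpleGroup X], Cfsg.IsKnownSimple' X)
    (hc : center T = ⊥) {N p M out : ℕ} {l : List (ℕ × ℕ)} {ps tbl : List ℕ} (hN : Nat.card T = N) (hp : p.Prime)
    (hp2 : ¬ p ^ 2 ∣ N) (hne : N ≠ p) (hM : okM N p 1 M = true) (hok : El.allOk N l [(p, 1, M)] ps tbl = true)
    (hex : ∃ R : Subgroup T, Nat.card R = p ∧ centralizer (R : Set T) = R) (hout : (Inn T).index ≤ out) :
    Nat.card L ∈ subR N l [(p, 1, M)] ps tbl out := by
  have hv : OrdDiv.valid l N = true := by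
    unfold El.allOk at hok
    rw [Bool.and_eq_true] at hok
    exact hok.1
  refine mem_subR h hc hN hv (El.mk_data OT hS hN hok fun x hx => ?_) hout
  rw [List.mem_singleton] at hx
  subst hx
  exact El.entry_of_ex hp hN hp2 hne hM hex

theorem mem_of_ex' {T : Type u} [Group T] [Finite T] [IsSimpleGroup T] {A : Subgroup (MulAut T)} {L : Subgroup T}
    (h : Reg A L) (OT : OrdDiv.OrderTable.{u})
    (hS : ∀ (X : Type u) [Group X] [Finite X] [IsSimpleGroup X], Cfsg.IsKnownSimple' X)
    (hc : center T = ⊥) {N p M : ℕ} {l : List (ℕ × ℕ)} {ps tbl : List ℕ} (hN : Nat.card T = N) (hp : p.Prime)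
    (hp2 : ¬ p ^ 2 ∣ N) (hne : N ≠ p) (hM : okM N p 1 M = true) (hok : El.allOk N l [(p, 1, M)] ps tbl = true)
    (hex : ∃ R : Subgroup T, Nat.card R = p ∧ centralizer (R : Set T) = R) :
    Nat.card L ∈ subR' N l [(p, 1, M)] ps tbl := by
  have hv : OrdDiv.valid l N = true := by
    unfold El.allOk at hok
    rw [Bool.and_eq_true] at hok
    exact hok.1
  refine mem_subR' h hc hN hv (El.mk_data OT hS hN hok fun x hx => ?_)
  rw [List.mem_singleton] at hx
  subst hx
  exact El.entry_of_ex hp hN hp2 hne hM hex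

theorem center_bot {T : Type u} [Group T] [Finite T] [IsSimpleGroup T] {N p : ℕ} (hN : Nat.card T = N) (hp : p.Prime)
    (hd : p ∣ N) (hne : N ≠ p) : center T = ⊥ := by
  apply center_eq_bot
  intro h
  letI : CommGroup T := { (inferInstance : Group T) with mul_comm := h }
  have h3 : (Nat.card T).Prime := IsSimpleGroup.prime_card (α := T)
  rw [hN] at h3
  exact hne ((Nat.prime_dvd_prime_iff_eq hp h3).1 hd).symm

/-- **Row**, if the list is empty (no bound for `|Out T|` needed) -/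
theorem row_of_ex' {T : Type u} [Group T] [Finite T] [IsSimpleGroup T] (OT : OrdDiv.OrderTable.{u})
    (hS : ∀ (X : Type u) [Group X] [Finite X] [IsSimpleGroup X], Cfsg.IsKnownSimple' X)
    {N p M : ℕ} {l : List (ℕ × ℕ)} {ps tbl : List ℕ} (hN : Nat.card T = N) (hp : p.Prime) (hd : p ∣ N)
    (hp2 : ¬ p ^ 2 ∣ N) (hne : N ≠ p) (hM : okM N p 1 M = true) (hok : El.allOk N l [(p, 1, M)] ps tbl = true)
    (hex : ∃ R : Subgroup T, Nat.card R = p ∧ centralizer (R : Set T) = R)
    (hs : (subR' N l [(p, 1, M)] ps tbl).isEmpty = true) : Row T := by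
  intro A L h
  have h1 := mem_of_ex' h OT hS (center_bot hN hp hd hne) hN hp hp2 hne hM hok hex
  rw [List.isEmpty_iff] at hs
  rw [hs] at h1
  exact List.not_mem_nil h1

/-- **Row**, if the list is empty -/
theorem row_of_ex {T : Type u} [Group T] [Finite T] [IsSimpleGroup T] (OT : OrdDiv.OrderTable.{u})
    (hS : ∀ (X : Type u) [Group X] [Finite X] [IsSimpleGroup X], Cfsg.IsKnownSimple' X)
    {N p M out : ℕ} {l : List (ℕ × ℕ)} {ps tbl : List ℕ} (hN : Nat.card T = N) (hp : p.Prime) (hd : p ∣ N)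
    (hp2 : ¬ p ^ 2 ∣ N) (hne : N ≠ p) (hM : okM N p 1 M = true) (hok : El.allOk N l [(p, 1, M)] ps tbl = true)
    (hex : ∃ R : Subgroup T, Nat.card R = p ∧ centralizer (R : Set T) = R) (hout : (Inn T).index ≤ out)
    (hs : (subR N l [(p, 1, M)] ps tbl out).isEmpty = true) : Row T := by
  intro A L h
  have h1 := mem_of_ex h OT hS (center_bot hN hp hd hne) hN hp hp2 hne hM hok hex hout
  rw [List.isEmpty_iff] at hs
  rw [hs] at h1
  exact List.not_mem_nil h1

/-- `|Out T|` from `|Aut T|` -/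
theorem index_of_card {T : Type u} [Group T] [Finite T] (hc : center T = ⊥) {out : ℕ}
    (h : Nat.card (MulAut T) = out * Nat.card T) : (Inn T).index = out := by
  have h1 : Nat.card (Inn T) = Nat.card T :=
    (Nat.card_congr (MonoidHom.ofInjective (conj_injective hc)).toEquiv).symm
  have h2 := (Inn T).card_mul_index
  rw [h1, h, mul_comm out] at h2
  exact Nat.eq_of_mul_eq_mul_left Nat.card_pos h2

end Cfsg.Agent.H503.BG
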