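import Cfsg.Agent.H57.BG.Tor
import Cfsg.Agent.H264.FKS.Two

/-!
# Abelian 2-subgroups commuting with `C₃ × C₃` in `GL₆(2)` (S3561) (helper503)
-/

set_option autoImplicit false
set_option linter.unusedSectionVars false

namespace Cfsg.Agent.H503.BG.Six

open Module Cfsg.Agent.H951 Cfsg.Agent.H884.Cg

variable {V : Type*} [AddCommGroup V] [Module (ZMod 2) V] [Finite V] {G : Type*} [Group G] [Finite G]
  (ρ : G →* Module.End (ZMod 2) V) (Q : Subgroup G) {W : Submodule (ZMod 2) V}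

/-- the vectors of `W` fixed by `Q` -/
def cq (W : Submodule (ZMod 2) V) : Submodule (ZMod 2) V where
  carrier := {v | v ∈ W ∧ ∀ q ∈ Q, ρ q v = v}
  add_mem' := by
    rintro a b ⟨ha, ha'⟩ ⟨hb, hb'⟩
    exact ⟨W.add_mem ha hb, fun q hq => by rw [map_add, ha' q hq, hb' q hq]⟩
  zero_mem' := ⟨W.zero_mem, fun q _ => map_zero _⟩
  smul_mem' := by
    rintro c a ⟨ha, ha'⟩
    exact ⟨W.smul_mem c ha, fun q hq => by rw [map_smul, ha' q hq]⟩

theorem cq_le : cq ρ Q W ≤ W := fun _ h => h.1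

theorem apply_inv (g : G) (v : V) : ρ g⁻¹ (ρ g v) = v := by
  rw [← Module.End.mul_apply, ← map_mul, inv_mul_cancel, map_one, Module.End.one_apply]

theorem card_sub (W : Submodule (ZMod 2) V) : Nat.card W = 2 ^ finrank (ZMod 2) W := by
  rw [Module.natCard_eq_pow_finrank (K := ZMod 2) (V := W), Nat.card_eq_fintype_card, ZMod.card]

variable {Q}

/-- the action on `W` -/
@[instance_reducible]
def actW (hW : ∀ q ∈ Q, Inv (ρ q) W) : MulAction Q W where
  smul q w := ⟨ρ q w, hW q q.2 w w.2⟩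
  one_smul w := Subtype.ext (by
    change ρ 1 (w : V) = w
    rw [map_one, Module.End.one_apply])
  mul_smul a b w := Subtype.ext (by
    change ρ (a * b : G) (w : V) = ρ a (ρ b (w : V))
    rw [map_mul, Module.End.mul_apply])

theorem cq_ne_bot (hQ : IsPGroup 2 Q) (hW : ∀ q ∈ Q, Inv (ρ q) W) (h0 : W ≠ ⊥) : cq ρ Q W ≠ ⊥ := by
  haveI : Fact (Nat.Prime 2) := ⟨Nat.prime_two⟩
  letI := actW ρ hW
  have h1 := hQ.card_modEq_card_fixedPoints W
  have h2 : 2 ∣ Nat.card W := by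
    rw [card_sub]
    refine dvd_pow_self 2 fun h => h0 ?_
    rwa [Submodule.finrank_eq_zero] at h
  have h3 : 2 ∣ Nat.card (MulAction.fixedPoints Q W) := (Nat.modEq_zero_iff_dvd.1 (h1.symm.trans
    (Nat.modEq_zero_iff_dvd.2 h2)))
  intro h
  have h4 : Nat.card (MulAction.fixedPoints Q W) = 1 := by
    rw [Nat.card_eq_one_iff_unique]
    have key : ∀ w : MulAction.fixedPoints Q W, w.1 = 0 := by
      rintro ⟨w, hw⟩
      have h5 : (w : V) ∈ cq ρ Q W := ⟨w.2, fun q hq => congrArg Subtype.val (hw ⟨q, hq⟩)⟩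
      rw [h, Submodule.mem_bot] at h5
      exact Subtype.ext h5
    refine ⟨⟨fun a b => Subtype.ext ((key a).trans (key b).symm)⟩, ⟨⟨0, fun q => Subtype.ext ?_⟩⟩⟩
    change ρ q ((0 : W) : V) = 0
    rw [Submodule.coe_zero, map_zero]
  rw [h4] at h3
  exact absurd h3 (by norm_num)

/-- the action on `W ∖ C_W(Q)` -/
@[instance_reducible]
def actD (hW : ∀ q ∈ Q, Inv (ρ q) W) : MulAction Q {v : V // v ∈ W ∧ v ∉ cq ρ Q W} where
  smul q v := ⟨ρ q v.1, hW q q.2 v.1 v.2.1, fun h => v.2.2 (by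
    have h1 := h.2 (q⁻¹ : Q) (inv_mem q.2)
    rw [Subgroup.coe_inv, apply_inv] at h1
    rw [h1]
    exact h)⟩
  one_smul v := Subtype.ext (by
    change ρ 1 v.1 = v
    rw [map_one, Module.End.one_apply])
  mul_smul a b v := Subtype.ext (by
    change ρ (a * b : G) v.1 = ρ a (ρ b v.1)
    rw [map_mul, Module.End.mul_apply])

theorem card_diff (hW : ∀ q ∈ Q, Inv (ρ q) W) :
    Nat.card {v : V // v ∈ W ∧ v ∉ cq ρ Q W} = 2 ^ finrank (ZMod 2) W - 2 ^ finrank (ZMod 2) (cq ρ Q W) := by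
  classical
  rw [← card_sub, ← card_sub]
  have h1 : ((W : Set V) \ (cq ρ Q W : Set V)).ncard = (W : Set V).ncard - (cq ρ Q W : Set V).ncard :=
    Set.ncard_diff (cq_le ρ Q) (Set.toFinite _)
  exact h1

theorem false_of_faithful (hQ : Nat.card Q = 8) (hW : ∀ q ∈ Q, Inv (ρ q) W)
    (hf : ∀ q ∈ Q, W ≤ fx (ρ q) → q = 1) {m d : ℕ} (hm : finrank (ZMod 2) W = m)
    (hd : finrank (ZMod 2) (cq ρ Q W) = d)
    (hst : ∀ q ∈ Q, d < finrank (ZMod 2) ↥(W ⊓ fx (ρ q)) → m ≤ finrank (ZMod 2) ↥(W ⊓ fx (ρ q)))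
    (h8 : ¬ 8 ∣ 2 ^ m - 2 ^ d) : False := by
  apply h8
  rw [← hm, ← hd, ← card_diff ρ hW, ← hQ]
  letI := actD ρ hW
  refine H264.FKS.Two.card_dvd_of_free fun q v hq => ?_
  have h1 : ρ q v.1 = v.1 := congrArg Subtype.val hq
  have h2 : cq ρ Q W < W ⊓ fx (ρ q) := by
    refine lt_of_le_of_ne (fun u hu => ⟨hu.1, mem_fx.2 (hu.2 q q.2)⟩) fun h => v.2.2 ?_
    have h6 : v.1 ∈ W ⊓ fx (ρ q) := ⟨v.2.1, mem_fx.2 h1⟩
    exact h.ge h6
  have h3 := Submodule.finrank_lt_finrank_of_lt h2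
  rw [hd] at h3
  have h4 := hst q q.2 h3
  have h5 : W ⊓ fx (ρ q) = W := Submodule.eq_of_le_of_finrank_le inf_le_left (by omega)
  exact Subtype.ext (hf q q.2 (by rw [← h5]; exact inf_le_right))

theorem ord_two_three : orderOf ((2 : ℕ) : ZMod 3) = 2 := by
  haveI : Fact (Nat.Prime 2) := ⟨Nat.prime_two⟩
  exact orderOf_eq_prime (by decide) (by decide)

/-- dimensions are even -/
theorem even_finrank {w : Module.End (ZMod 2) V} (hw : w ^ 3 = 1) (hW : Inv w W) (h0 : W ⊓ fx w = ⊥) :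
    2 ∣ finrank (ZMod 2) W := by
  haveI : Fact (Nat.Prime 3) := ⟨Nat.prime_three⟩
  have h1 := ord_dvd_finrank hw hW h0
  rw [ZMod.card] at h1
  rwa [ord_two_three] at h1

/-- two-dimensional subspaces -/
theorem le_of_two (hQ : IsPGroup 2 Q) (hW : ∀ q ∈ Q, Inv (ρ q) W) {w : Module.End (ZMod 2) V} (hw : w ^ 3 = 1)
    (hWw : Inv w W) (h0 : W ⊓ fx w = ⊥) (hc : ∀ q ∈ Q, Commute (ρ q) w) (h2 : finrank (ZMod 2) W = 2) :
    W ≤ cq ρ Q W := by
  have hW0 : W ≠ ⊥ := by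
    rintro rfl
    rw [finrank_bot] at h2
    omega
  have h1 := cq_ne_bot ρ hQ hW hW0
  have h3 : Inv w (cq ρ Q W) := fun v hv => ⟨hWw v hv.1, fun q hq => by
    have h4 : ρ q (w v) = w (ρ q v) := LinearMap.congr_fun (hc q hq).eq v
    rw [h4, hv.2 q hq]⟩
  have h4 := even_finrank hw h3 (by
    rw [eq_bot_iff, ← h0]
    exact inf_le_inf_right _ (cq_le ρ Q))
  have h5 : finrank (ZMod 2) (cq ρ Q W) ≠ 0 := fun h => h1 (Submodule.finrank_eq_zero.1 h)
  have h6 := Nat.le_of_dvd (by omega) h4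
  have h7 : cq ρ Q W = W := Submodule.eq_of_le_of_finrank_le (cq_le ρ Q) (by omega)
  rw [h7]

/-- four-dimensional subspaces -/
theorem false_of_four (hQ : Nat.card Q = 8) (hW : ∀ q ∈ Q, Inv (ρ q) W) {w : Module.End (ZMod 2) V} (hw : w ^ 3 = 1)
    (hWw : Inv w W) (h0 : W ⊓ fx w = ⊥) (hc : ∀ q ∈ Q, Commute (ρ q) w) (h4 : finrank (ZMod 2) W = 4)
    (hf : ∀ q ∈ Q, W ≤ fx (ρ q) → q = 1) : False := by
  have hQp : IsPGroup 2 Q := IsPGroup.of_card (n := 3) hQ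
  have hW0 : W ≠ ⊥ := by
    rintro rfl
    rw [finrank_bot] at h4
    omega
  have h1 := cq_ne_bot ρ hQp hW hW0
  have h3 : Inv w (cq ρ Q W) := fun v hv => ⟨hWw v hv.1, fun q hq => by
    have h4 : ρ q (w v) = w (ρ q v) := LinearMap.congr_fun (hc q hq).eq v
    rw [h4, hv.2 q hq]⟩
  have h5 := even_finrank hw h3 (by
    rw [eq_bot_iff, ← h0]
    exact inf_le_inf_right _ (cq_le ρ Q))
  have h6 : finrank (ZMod 2) (cq ρ Q W) ≠ 0 := fun h => h1 (Submodule.finrank_eq_zero.1 h)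
  have h7 := Submodule.finrank_mono (cq_le ρ Q (W := W))
  have h8 : finrank (ZMod 2) (cq ρ Q W) ≠ 4 := by
    intro h8
    have h9 : cq ρ Q W = W := Submodule.eq_of_le_of_finrank_le (cq_le ρ Q) (by omega)
    have h10 : ∀ q ∈ Q, q = 1 := fun q hq => hf q hq fun v hv => mem_fx.2 ((h9.ge hv).2 q hq)
    have h11 : Q = ⊥ := (Subgroup.eq_bot_iff_forall Q).2 h10
    rw [h11, Subgroup.card_bot] at hQ
    omega
  obtain ⟨k, hk⟩ := h5
  refine false_of_faithful ρ hQ hW hf h4 (d := 2) (by omega) (fun q hq h => ?_) (by norm_num)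
  have h9 := even_finrank hw (W := W ⊓ fx (ρ q)) (hWw.inf (inv_fx_of_commute (hc q hq).symm)) (by
    rw [eq_bot_iff, ← h0]
    exact inf_le_inf_right _ inf_le_left)
  omega

/-- **no subgroup of order `8` of `GL₆(2)` centralizes `C₃ × C₃`** -/
theorem false_of_comm (hV : finrank (ZMod 2) V ≤ 6) (hρ : Function.Injective ρ) {x y : G} (hx : orderOf x = 3)
    (hy : orderOf y = 3) (hxy : x * y = y * x) (hyx : y ∉ Subgroup.zpowers x) (hQ : Nat.card Q = 8)
    (hQx : ∀ q ∈ Q, q * x = x * q) (hQy : ∀ q ∈ Q, q * y = y * q) : False := by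
  have h3p : Nat.Prime 3 := Nat.prime_three
  have h0 : ((3 : ℕ) : ZMod 2) ≠ 0 := by decide
  have hQp : IsPGroup 2 Q := IsPGroup.of_card (n := 3) hQ
  have hρ1 : ∀ g : G, ρ g = 1 → g = 1 := fun g h => hρ (by rw [h, map_one])
  have hX : (ρ x) ^ 3 = 1 := by rw [← map_pow, ← hx, pow_orderOf_eq_one, map_one]
  have hY : (ρ y) ^ 3 = 1 := by rw [← map_pow, ← hy, pow_orderOf_eq_one, map_one]
  have hXY : Commute (ρ x) (ρ y) := by
    change _ * _ = _ * _
    rw [← map_mul, ← map_mul, hxy]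
  have hy1 : ρ y ≠ 1 := fun h => by
    rw [hρ1 y h, orderOf_one] at hy
    omega
  have hcy : cm (ρ y) ≠ ⊥ := fun h => hy1 (sub_eq_zero.1 (LinearMap.range_eq_bot.1 h))
  have hcfy : cm (ρ y) ⊓ fx (ρ y) = ⊥ := by
    rw [inf_comm]; exact (isCompl_fx_cm h0 hY).inf_eq_bot
  obtain ⟨i, -, hi⟩ := exists_fixed h3p h0 hX hY hXY (inv_cm_of_commute hXY) inv_cm hcy hcfy
  set g := x * y ^ i with hg
  have hgw : ρ x * ρ y ^ i = ρ g := by rw [hg, map_mul, map_pow]
  rw [hgw] at hi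
  have hg1 : g ≠ 1 := by
    intro h
    apply hyx
    have h4 : x = (y ^ i)⁻¹ := by rw [eq_inv_iff_mul_eq_one]; exact h
    have h5 : Subgroup.zpowers x ≤ Subgroup.zpowers y := by
      rw [Subgroup.zpowers_le, h4]
      exact inv_mem (Subgroup.npow_mem_zpowers _ _)
    have h6 : Subgroup.zpowers x = Subgroup.zpowers y :=
      Subgroup.eq_of_le_of_card_ge h5 (by rw [Nat.card_zpowers, Nat.card_zpowers, hx, hy])
    rw [h6]
    exact Subgroup.mem_zpowers _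
  have hcxi : Commute x (y ^ i) := (show Commute x y from hxy).pow_right i
  have hgr : (ρ g) ^ 3 = 1 := by
    rw [← map_pow, hg, hcxi.mul_pow, ← pow_mul, mul_comm i 3, pow_mul, ← hx, pow_orderOf_eq_one, hx, ← hy,
      pow_orderOf_eq_one, one_pow, one_mul, map_one]
  have hgy : Commute (ρ g) (ρ y) := by
    change _ * _ = _ * _
    rw [← map_mul, ← map_mul, hg]
    congr 1
    exact ((show Commute x y from hxy).mul_left (Commute.refl y |>.pow_left i)).eq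
  have hQg : ∀ q ∈ Q, Commute (ρ q) (ρ g) := fun q hq => by
    change _ * _ = _ * _
    rw [← map_mul, ← map_mul, hg]
    congr 1
    exact ((show Commute q x from hQx q hq).mul_right ((show Commute q y from hQy q hq).pow_right i)).eq
  have hQY : ∀ q ∈ Q, Commute (ρ q) (ρ y) := fun q hq => by
    change _ * _ = _ * _
    rw [← map_mul, ← map_mul, hQy q hq]
  -- the three parts
  set U := cm (ρ y) ⊓ fx (ρ g) with hUdef
  have hUyi : Inv (ρ y) U := inv_cm.inf (inv_fx_of_commute hgy.symm)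
  have hUf : U ⊓ fx (ρ y) = ⊥ := by
    rw [eq_bot_iff, ← hcfy]
    exact inf_le_inf_right _ inf_le_left
  have hUe := even_finrank hY hUyi hUf
  have hU0 : finrank (ZMod 2) U ≠ 0 := fun h => hi (Submodule.finrank_eq_zero.1 h)
  have hcg : cm (ρ g) ≠ ⊥ := fun h => hg1 (hρ1 g (sub_eq_zero.1 (LinearMap.range_eq_bot.1 h)))
  have hcfg : cm (ρ g) ⊓ fx (ρ g) = ⊥ := by
    rw [inf_comm]; exact (isCompl_fx_cm h0 hgr).inf_eq_bot
  have hge := even_finrank hgr inv_cm hcfg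
  have hg0 : finrank (ZMod 2) (cm (ρ g)) ≠ 0 := fun h => hcg (Submodule.finrank_eq_zero.1 h)
  have hdim := finrank_fx_add_cm h0 hgr
  set C := fx (ρ g) ⊓ fx (ρ y) with hC
  have hfw : finrank (ZMod 2) C + finrank (ZMod 2) U = finrank (ZMod 2) (fx (ρ g)) := by
    have := finrank_inf_add h0 hY (inv_fx_of_commute hgy.symm : Inv (ρ y) (fx (ρ g)))
    rwa [inf_comm (fx (ρ g)) (cm (ρ y))] at this
  have hspan : C ⊔ U = fx (ρ g) := by
    have := inf_fx_sup_inf_cm h0 hY (inv_fx_of_commute hgy.symm : Inv (ρ y) (fx (ρ g)))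
    rwa [inf_comm (fx (ρ g)) (cm (ρ y))] at this
  have hfull : ∀ q : G, C ≤ fx (ρ q) → U ≤ fx (ρ q) → cm (ρ g) ≤ fx (ρ q) → q = 1 := by
    intro q h1 h2 h3
    apply hρ1
    have h4 : fx (ρ q) = ⊤ := by
      rw [eq_top_iff, ← (isCompl_fx_cm h0 hgr).sup_eq_top]
      refine sup_le ?_ h3
      rw [← hspan]
      exact sup_le h1 h2
    refine LinearMap.ext fun v => ?_
    exact mem_fx.1 (h4 ▸ Submodule.mem_top)
  have iC : ∀ q ∈ Q, Inv (ρ q) C := fun q hq => (inv_fx_of_commute (hQg q hq)).inf (inv_fx_of_commute (hQY q hq))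
  have iU : ∀ q ∈ Q, Inv (ρ q) U := fun q hq => (inv_cm_of_commute (hQY q hq)).inf (inv_fx_of_commute (hQg q hq))
  have iG : ∀ q ∈ Q, Inv (ρ q) (cm (ρ g)) := fun q hq => inv_cm_of_commute (hQg q hq)
  have le_fx_of : ∀ {W : Submodule (ZMod 2) V}, W ≤ cq ρ Q W → ∀ q ∈ Q, W ≤ fx (ρ q) := fun {W} h q hq v hv =>
    mem_fx.2 ((h hv).2 q hq)
  obtain ⟨a, ha⟩ := hUe
  obtain ⟨b, hb⟩ := hge
  rcases (by omega : (a = 1 ∧ b = 1) ∨ (a = 2 ∧ b = 1 ∧ finrank (ZMod 2) C = 0) ∨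
      (a = 1 ∧ b = 2 ∧ finrank (ZMod 2) C = 0)) with ⟨rfl, rfl⟩ | ⟨rfl, rfl, hC0⟩ | ⟨rfl, rfl, hC0⟩
  · have hUt := le_fx_of (le_of_two ρ hQp iU hY hUyi hUf hQY (by omega))
    have hGt := le_fx_of (le_of_two ρ hQp iG hgr inv_cm hcfg hQg (by omega))
    have hf : ∀ q ∈ Q, C ≤ fx (ρ q) → q = 1 := fun q hq h => hfull q h (hUt q hq) (hGt q hq)
    have hCd : finrank (ZMod 2) C ≤ 2 := by omega
    by_cases hCb : C = ⊥
    · have h10 : ∀ q ∈ Q, q = 1 := fun q hq => hf q hq (by rw [hCb]; exact bot_le)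
      have h11 : Q = ⊥ := (Subgroup.eq_bot_iff_forall Q).2 h10
      rw [h11, Subgroup.card_bot] at hQ
      omega
    · have h1 := cq_ne_bot ρ hQp iC hCb
      have h2 : finrank (ZMod 2) (cq ρ Q C) ≠ 0 := fun h => h1 (Submodule.finrank_eq_zero.1 h)
      have h7 := Submodule.finrank_mono (cq_le ρ Q (W := C))
      have h8 : finrank (ZMod 2) (cq ρ Q C) ≠ finrank (ZMod 2) C := by
        intro h8
        have h9 : cq ρ Q C = C := Submodule.eq_of_le_of_finrank_le (cq_le ρ Q) (by omega)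
        have h10 : ∀ q ∈ Q, q = 1 := fun q hq => hf q hq fun v hv => mem_fx.2 ((h9.ge hv).2 q hq)
        have h11 : Q = ⊥ := (Subgroup.eq_bot_iff_forall Q).2 h10
        rw [h11, Subgroup.card_bot] at hQ
        omega
      exact false_of_faithful ρ hQ iC hf (m := 2) (d := 1) (by omega) (by omega) (fun q _ h => by omega) (by norm_num)
  · have hCb := Submodule.finrank_eq_zero.1 hC0
    have hGt := le_fx_of (le_of_two ρ hQp iG hgr inv_cm hcfg hQg (by omega))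
    exact false_of_four ρ hQ iU hY hUyi hUf hQY (by omega) fun q hq h =>
      hfull q (by rw [hCb]; exact bot_le) h (hGt q hq)
  · have hCb := Submodule.finrank_eq_zero.1 hC0
    have hUt := le_fx_of (le_of_two ρ hQp iU hY hUyi hUf hQY (by omega))
    exact false_of_four ρ hQ iG hgr inv_cm hcfg hQg (by omega) fun q hq h =>
      hfull q (by rw [hCb]; exact bot_le) (hUt q hq) h

end Cfsg.Agent.H503.BG.Six
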